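import Groth.Agent.Lib.CI2.KRPeel
import Groth.Agent.Lib.CI2.Gci
import Mathlib

/-!
A Koszul regular sequence becomes regular after generic recombination over a polynomial ring.
-/

set_option autoImplicit false
set_option linter.style.haveILetI false
universe u

open Groth.Agent.CanElt (KObj kd)
open Groth.Agent.CI2 (Ex)
open scoped Pointwise

namespace Groth.Agent.RegDesc11

variable {A : Type u} [CommRing A] {M : Type u} [AddCommGroup M] [Module A M]

theorem kobj_eq_zero : ∀ (l : List A) (n : ℕ), l.length < n → ∀ x : KObj A M l n, x = 0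
  | [], n + 1, _, _ => Subsingleton.elim (h := inferInstanceAs (Subsingleton PUnit)) _ _
  | _ :: l, n + 1, h, (a, b) =>
    Prod.ext (kobj_eq_zero l (n + 1) (by simp at h; omega) a) (kobj_eq_zero l n (by simpa using h) b)

theorem exists_top : ∀ (l : List A), ∃ t : M →ₗ[A] KObj A M l l.length, Function.Injective t ∧
    ∀ n, ∀ (hn : l.length = n + 1) (m : M), (∀ x ∈ l, x • m = 0) →
      ∀ z : KObj A M l (n + 1), z = hn ▸ t m → kd A M l n z = 0
  | [] => ⟨LinearMap.id, fun _ _ h => h, fun n hn => absurd hn (by simp)⟩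
  | f :: l => by
    obtain ⟨t, ht, hd⟩ := exists_top l
    refine ⟨LinearMap.prod 0 t, fun a b h => ht (congrArg Prod.snd h), fun n hn m hm z hz => ?_⟩
    obtain rfl : l.length = n := by simpa using hn
    subst hz
    have hf : f • t m = 0 := by rw [← map_smul, hm f List.mem_cons_self, map_zero]
    show kd A M (f :: l) l.length ((0 : KObj A M l (l.length + 1)), t m) = 0
    generalize hN : t m = y at hf ⊢
    cases l with
    | nil =>
      show kd A M [] 0 (0 : KObj A M [] 1) + f • y = 0
      rw [map_zero, zero_add, hf]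
    | cons g l' =>
      show ((kd A M (g :: l') ((g :: l').length) 0 + f • y), -kd A M (g :: l') l'.length y) = 0
      rw [map_zero, zero_add, hf, hd l'.length rfl m (fun x hx => hm x (List.mem_cons_of_mem _ hx)) y hN.symm, neg_zero]
      rfl

/-- Nothing nonzero is killed by a nonempty sequence with exact Koszul complex. -/
theorem eq_zero_of_ex {l : List A} (hne : l ≠ []) (h : Ex A M l) (m : M) (hm : ∀ x ∈ l, x • m = 0) : m = 0 := by
  obtain ⟨f, l, rfl⟩ := List.exists_cons_of_ne_nil hne
  obtain ⟨t, ht, hd⟩ := exists_top (M := M) (f :: l)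
  obtain ⟨w, hw⟩ := h l.length (t m) (hd l.length rfl m hm _ rfl)
  rw [kobj_eq_zero _ _ (by simp) w, map_zero] at hw
  exact ht (hw.symm.trans (map_zero t).symm)

theorem weaklyRegular_cons_lift {P Q : Type u} [CommRing P] [CommRing Q] (π : P →+* Q) (hπ : Function.Surjective π)
    (G : P) (hker : RingHom.ker π = Ideal.span {G}) (hG : ∀ p : P, G * p = 0 → p = 0) (w : List P)
    (hw : RingTheory.Sequence.IsWeaklyRegular Q (w.map π)) : RingTheory.Sequence.IsWeaklyRegular P (G :: w) := by
  rw [RingTheory.Sequence.isWeaklyRegular_cons_iff]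
  refine ⟨isSMulRegular_iff_right_eq_zero_of_smul.mpr hG, ?_⟩
  let ψ : P →+ Q := π.toAddMonoidHom
  have hk : (G • ⊤ : Submodule P P).toAddSubgroup = ψ.ker := by
    ext x
    show x ∈ (G • ⊤ : Submodule P P) ↔ π x = 0
    rw [← RingHom.mem_ker, hker, ← Submodule.ideal_span_singleton_smul, Ideal.smul_eq_mul, Ideal.mul_top]
  let e : QuotSMulTop G P ≃+ Q :=
    (QuotientAddGroup.quotientAddEquivOfEq hk).trans (QuotientAddGroup.quotientKerEquivOfSurjective ψ hπ)
  refine (e.isWeaklyRegular_congr ?_).2 hw
  rw [List.forall₂_map_right_iff, List.forall₂_same]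
  intro x _ y
  obtain ⟨y, rfl⟩ := Submodule.Quotient.mk_surjective _ y
  exact map_mul π x y

theorem ofList_cons_lift {P Q : Type u} [CommRing P] [CommRing Q] (π : P →+* Q) (hπ : Function.Surjective π)
    (G : P) (hker : RingHom.ker π = Ideal.span {G}) (w : List P) (J : Ideal P) (hG : G ∈ J)
    (hw : Ideal.ofList (w.map π) = J.map π) : Ideal.ofList (G :: w) = J := by
  have h := congrArg (Ideal.comap π) hw
  rw [← Ideal.map_ofList, Ideal.comap_map_of_surjective π hπ, Ideal.comap_map_of_surjective π hπ,
    ← RingHom.ker_eq_comap_bot, hker, sup_eq_left.2 ((Ideal.span_singleton_le_iff_mem _).2 hG)] at h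
  rw [Ideal.ofList_cons, sup_comm, h]

theorem exists_polyEquiv (A : Type u) [CommRing A] (r : ℕ) :
    ∃ e : MvPolynomial (Fin r) (Polynomial A) ≃+* MvPolynomial (Fin (r + 1)) A,
      ∀ a : A, e (MvPolynomial.C (Polynomial.C a)) = MvPolynomial.C a := by
  refine ⟨(MvPolynomial.mapEquiv (Fin r) (MvPolynomial.pUnitAlgEquiv A).symm.toRingEquiv).trans
    ((MvPolynomial.sumAlgEquiv A (Fin r) PUnit.{1}).symm.toRingEquiv.trans
      (MvPolynomial.renameEquiv A
        ((Equiv.sumCongr (Equiv.refl (Fin r)) finOneEquiv.symm).trans finSumFinEquiv)).toRingEquiv), fun a => ?_⟩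
  simp

theorem exists_lift_step {B : Type u} [CommRing B] (r : ℕ) (g : B) (hg : ∀ b : B, g * b = 0 → b = 0)
    (J : Ideal B) (hgJ : g ∈ J) (lq : List (MvPolynomial (Fin r) (B ⧸ Ideal.span {g})))
    (hreg : RingTheory.Sequence.IsWeaklyRegular (MvPolynomial (Fin r) (B ⧸ Ideal.span {g})) lq)
    (hspan : Ideal.ofList lq = (J.map (Ideal.Quotient.mk (Ideal.span {g}))).map MvPolynomial.C) :
    ∃ w : List (MvPolynomial (Fin r) B), w.length = lq.length ∧
      RingTheory.Sequence.IsWeaklyRegular (MvPolynomial (Fin r) B) (MvPolynomial.C g :: w) ∧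
      Ideal.ofList (MvPolynomial.C g :: w) = J.map MvPolynomial.C := by
  let π : MvPolynomial (Fin r) B →+* MvPolynomial (Fin r) (B ⧸ Ideal.span {g}) :=
    MvPolynomial.map (Ideal.Quotient.mk (Ideal.span {g}))
  have hπ : Function.Surjective π := MvPolynomial.map_surjective _ Ideal.Quotient.mk_surjective
  have hπk : RingHom.ker π = Ideal.span {MvPolynomial.C g} := by
    rw [MvPolynomial.ker_map, Ideal.mk_ker, Ideal.map_span, Set.image_singleton]
  have hw : (lq.map (Function.surjInv hπ)).map π = lq := by
    rw [List.map_map]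
    exact (List.map_congr_left fun x _ => Function.surjInv_eq hπ x).trans (List.map_id' lq)
  have hnzd : ∀ p : MvPolynomial (Fin r) B, MvPolynomial.C g * p = 0 → p = 0 := fun p hp =>
    MvPolynomial.ext _ _ fun d => by
      have h1 := congrArg (MvPolynomial.coeff d) hp
      rw [MvPolynomial.coeff_C_mul, MvPolynomial.coeff_zero] at h1
      rw [MvPolynomial.coeff_zero]
      exact hg _ h1
  refine ⟨lq.map (Function.surjInv hπ), List.length_map _,
    weaklyRegular_cons_lift π hπ _ hπk hnzd _ (by rw [hw]; exact hreg),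
    ofList_cons_lift π hπ _ hπk _ _ (Ideal.mem_map_of_mem _ hgJ) ?_⟩
  rw [hw, hspan, Ideal.map_map, Ideal.map_map]
  exact congrArg (fun φ => Ideal.map φ J) (RingHom.ext fun b => (MvPolynomial.map_C _ b).symm)

theorem exists_weaklyRegular_step (r : ℕ)
    (ih : ∀ (A : Type u) [CommRing A] (l : List A), l.length = r → Ex A A l →
      ∃ l' : List (MvPolynomial (Fin r) A), l'.length = r ∧ RingTheory.Sequence.IsWeaklyRegular (MvPolynomial (Fin r) A) l' ∧
        Ideal.ofList l' = (Ideal.ofList l).map MvPolynomial.C)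
    (A : Type u) [CommRing A] (l : List A) (hlen : l.length = r + 1) (hl : Ex A A l) :
    ∃ l' : List (MvPolynomial (Fin (r + 1)) A), l'.length = r + 1 ∧
      RingTheory.Sequence.IsWeaklyRegular (MvPolynomial (Fin (r + 1)) A) l' ∧
      Ideal.ofList l' = (Ideal.ofList l).map MvPolynomial.C := by
  classical
  obtain ⟨f, hs, rfl⟩ := List.exists_cons_of_length_eq_add_one hlen
  let j : A →+* (Polynomial A) := Polynomial.C
  haveI : Module.Flat A (Polynomial A) := inferInstance
  have hB : Ex (Polynomial A) (Polynomial A) ((f :: hs).map j) := (hl.of_flat (Polynomial A)).map_bijective (σ := algebraMap A (Polynomial A))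
    { toFun := id
      map_add' := fun _ _ => rfl
      map_smul' := fun a b => Algebra.smul_def a b } Function.bijective_id
  let t : (Polynomial A) := ∑ i : Fin hs.length, Polynomial.monomial (i.1 + 1) (hs.get i)
  have htmem : t ∈ Ideal.ofList (hs.map j) := Ideal.sum_mem _ fun i _ => by
    rw [← Polynomial.C_mul_X_pow_eq_monomial]
    exact Ideal.mul_mem_right _ _ (Ideal.subset_span (List.mem_map_of_mem (List.get_mem hs i)))
  let g : (Polynomial A) := j f + t
  have hg : Ex (Polynomial A) (Polynomial A) (g :: hs.map j) := CI2.ex_cons_add htmem hB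
  have hnzd : ∀ b : (Polynomial A), g • b = 0 → b = 0 := by
    intro b hb
    refine ((Polynomial.mem_nonZeroDivisors_iff).2 (fun a ha => ?_) : g ∈ nonZeroDivisors (Polynomial A)).1 b hb
    refine eq_zero_of_ex (List.cons_ne_nil f hs) hl a fun x hx => ?_
    have hc : ∀ n, a * g.coeff n = 0 := fun n => by
      simpa using congrArg (fun p => Polynomial.coeff p n) ha
    rw [smul_eq_mul, mul_comm]
    rcases List.mem_cons.1 hx with rfl | hx
    · have h0 := hc 0
      simpa [g, t, j, Polynomial.coeff_monomial] using h0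
    · obtain ⟨i, rfl⟩ := List.mem_iff_get.1 hx
      have h1 := hc (i.1 + 1)
      have h2 : g.coeff (i.1 + 1) = hs.get i := by
        simp only [g, t, j, Polynomial.coeff_add, Polynomial.finsetSum_coeff, Polynomial.coeff_monomial,
          Polynomial.coeff_C_succ, zero_add, add_left_inj, Fin.val_inj]
        rw [Finset.sum_ite_eq' Finset.univ i (fun k => hs.get k), if_pos (Finset.mem_univ i)]
      rwa [h2] at h1
  let σ := Ideal.Quotient.mk (Ideal.span {g})
  have hq : Ex ((Polynomial A) ⧸ Ideal.span {g}) ((Polynomial A) ⧸ Ideal.span {g}) ((hs.map j).map σ) := by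
    refine CI2.ex_of_append_of_surjective σ Ideal.Quotient.mk_surjective (l := [g]) (by simp [σ, Ideal.mk_ker])
      (CI2.ex_of_isWeaklyRegular _ _ ?_) (CI2.ex_of_perm (List.perm_append_singleton g (hs.map j)).symm hg)
    rw [RingTheory.Sequence.isWeaklyRegular_singleton_iff, isSMulRegular_iff_right_eq_zero_of_smul]
    exact hnzd
  obtain ⟨lq, hlq, hreg, hspan⟩ := ih ((Polynomial A) ⧸ Ideal.span {g}) ((hs.map j).map σ)
    (by simpa using hlen) hq
  obtain ⟨w, hwlen, hregP, hspanP⟩ := exists_lift_step r g hnzd (Ideal.ofList ((f :: hs).map j))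
    (by
      rw [List.map_cons, Ideal.ofList_cons]
      exact add_mem (Ideal.mem_sup_left (Ideal.mem_span_singleton_self _)) (Ideal.mem_sup_right htmem))
    lq hreg (by
      rw [hspan]
      congr 1
      have hσf : σ (j f) ∈ (Ideal.ofList (hs.map j)).map σ := by
        have h0 : σ g = 0 := Ideal.Quotient.eq_zero_iff_mem.2 (Ideal.mem_span_singleton_self g)
        rw [show σ (j f) = - σ t by rw [eq_neg_iff_add_eq_zero, ← map_add]; exact h0]
        exact neg_mem (Ideal.mem_map_of_mem σ htmem)
      rw [List.map_cons, Ideal.ofList_cons, Ideal.map_sup, Ideal.map_span, Set.image_singleton,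
        ← Ideal.map_ofList]
      exact (sup_eq_right.2 ((Ideal.span_singleton_le_iff_mem _).2 hσf)).symm)
  obtain ⟨e, he⟩ := exists_polyEquiv A r
  refine ⟨(MvPolynomial.C g :: w).map e, by simp [hwlen, hlq], ?_, ?_⟩
  · refine (e.toAddEquiv.isWeaklyRegular_congr ?_).1 hregP
    rw [List.forall₂_map_right_iff, List.forall₂_same]
    exact fun x _ y => map_mul e x y
  · rw [show (MvPolynomial.C g :: w).map e = (MvPolynomial.C g :: w).map e.toRingHom from rfl, ← Ideal.map_ofList, hspanP,
      ← Ideal.map_ofList, Ideal.map_map, Ideal.map_map]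
    exact congrArg (fun φ => Ideal.map φ _) (RingHom.ext he)


/-- Over a polynomial ring, a Koszul regular sequence has a weakly regular generating sequence of the same length. -/
theorem exists_weaklyRegular : ∀ (r : ℕ) (A : Type u) [CommRing A] (l : List A), l.length = r → Ex A A l →
    ∃ l' : List (MvPolynomial (Fin r) A), l'.length = r ∧ RingTheory.Sequence.IsWeaklyRegular (MvPolynomial (Fin r) A) l' ∧
      Ideal.ofList l' = (Ideal.ofList l).map MvPolynomial.C := by
  intro r
  induction r with
  | zero =>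
    intro A _ l hlen _
    refine ⟨[], rfl, RingTheory.Sequence.IsWeaklyRegular.nil _ _, ?_⟩
    obtain rfl := List.length_eq_zero_iff.1 hlen
    simp
  | succ r ih => exact exists_weaklyRegular_step r ih

end Groth.Agent.RegDesc11
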