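import Groth.Agent.Lib.RegDesc11.Seq
import Groth.Agent.Lib.CI2.KRDesc
import Mathlib

/-!
Ideals locally generated by H1-regular or quasi-regular sequences descend along faithfully flat ring maps.
-/

set_option autoImplicit false
set_option linter.style.haveILetI false
universe u

namespace Groth.Agent.RegDesc11

/-- Every prime containing `I` has a basic open neighbourhood on which `I` is generated by a sequence of kind `K`. -/
def IsKindIdeal (K : RegImm.Kind) {A : Type u} [CommRing A] (I : Ideal A) : Prop :=
  ∀ p : PrimeSpectrum A, I ≤ p.asIdeal → ∃ g : A, g ∉ p.asIdeal ∧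
    ∃ l : List (Localization.Away g), K.Seq (Localization.Away g) l ∧
      I.map (algebraMap A (Localization.Away g)) = Ideal.ofList l

variable {K : RegImm.Kind} (hK : K = .h1 ∨ K = .quasi)

include hK in
theorem seq_map_equiv {A B : Type u} [CommRing A] [CommRing B] (e : A ≃+* B) {l : List A} (h : K.Seq A l) :
    K.Seq B (l.map e) := by
  letI : Algebra A B := e.toRingHom.toAlgebra
  haveI : Module.Flat A B := RingHom.Flat.of_bijective (f := e.toRingHom) e.bijective
  exact seq_map_flat hK (B := B) h

include hK in
theorem seq_of_unit_mem {A : Type u} [CommRing A] (l : List A) (h : ∃ x ∈ l, IsUnit x) : K.Seq A l := by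
  classical
  obtain ⟨x, hx, hu⟩ := h
  obtain ⟨i₀, rfl⟩ := List.mem_iff_get.1 hx
  rcases hK with rfl | rfl
  · refine (RegImm26.isH1Regular_iff_span l.get).2 fun a ha => ?_
    obtain ⟨v, hv⟩ := hu.exists_left_inv
    have e : a = ∑ j, (v * a j) • RegImm26.koszulRel l.get (j, i₀) := by
      funext m
      simp only [Finset.sum_apply, Pi.smul_apply, RegImm26.koszulRel, Pi.sub_apply, Pi.single_apply, smul_eq_mul,
        mul_sub, mul_ite, mul_zero, Finset.sum_sub_distrib, Finset.sum_ite_eq, Finset.mem_univ, if_true]
      have h1 : v * a m * l.get i₀ = a m := by rw [mul_comm v, mul_assoc, hv, mul_one]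
      rw [h1]
      split_ifs with hm
      · subst hm
        rw [show (∑ j, v * a j * l.get j) = v * ∑ j, a j * l.get j by simp [Finset.mul_sum, mul_assoc], ha, mul_zero,
          sub_zero]
      · simp
    rw [e]
    exact sum_mem fun j _ => Submodule.smul_mem _ _ (Submodule.subset_span (Set.mem_range_self _))
  · intro n P _ _ d
    rw [Ideal.eq_top_of_isUnit_mem _ (Ideal.subset_span (Set.mem_range_self i₀)) hu]
    exact Submodule.mem_top

section LocalRing

variable {L : Type u} [CommRing L] {M : Type u} [CommRing M] [Algebra L M] [Module.FaithfullyFlat L M]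

include hK in
theorem ff_key [IsLocalRing L] [IsLocalRing M] {J : Ideal L} {k : List L} (hk : Ideal.ofList k = J)
    (hmin : ∀ k' : List L, Ideal.ofList k' = J → k.length ≤ k'.length) (hne : J ≠ ⊤) {l : List M}
    (hl : K.Seq M l) (hJl : J.map (algebraMap L M) = Ideal.ofList l) : l.length = k.length ∧ K.Seq L k := by
  have hkM : Ideal.ofList (k.map (algebraMap L M)) = Ideal.ofList l := by rw [← Ideal.map_ofList, hk, hJl]
  have hneM : Ideal.ofList l ≠ ⊤ := fun he => hne (by
    rw [← J.comap_map_eq_self_of_faithfullyFlat (B := M), hJl, he, Ideal.comap_top])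
  have hle : l.length ≤ k.length := by simpa using length_le hK hl hneM hkM
  have hge : k.length ≤ l.length := by
    by_contra hlt
    obtain ⟨i, hi⟩ := CI2.exists_redundant hkM (by simpa using (not_le.1 hlt))
    let j : Fin k.length := Fin.cast (List.length_map _) i
    have hi' : algebraMap L M (k.get j) ∈ (Ideal.ofList (k.eraseIdx j)).map (algebraMap L M) := by
      rw [Ideal.map_ofList]
      simpa [List.eraseIdx_map, j] using hi
    rw [← Ideal.mem_comap, Ideal.comap_map_eq_self_of_faithfullyFlat] at hi'
    have h3 := hmin (k.eraseIdx j) ((CI2.ofList_eraseIdx k j hi').trans hk)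
    rw [List.length_eraseIdx_of_lt j.2] at h3
    have := j.2
    omega
  exact ⟨le_antisymm hle hge, seq_descent hK (seq_of_ofList_eq hK hl hneM hkM (by simp; omega))⟩

end LocalRing

section Descent

variable {A B : Type u} [CommRing A] [CommRing B] [Algebra A B] [Module.FaithfullyFlat A B]

include hK in
theorem minGen_key {I : Ideal A} (hI : I.FG) (q : PrimeSpectrum B) (hq : I.map (algebraMap A B) ≤ q.asIdeal)
    {h : B} (hh : h ∉ q.asIdeal) {l : List (Localization.Away h)}
    (hl : K.Seq (Localization.Away h) l)
    (hspan : (I.map (algebraMap A B)).map (algebraMap B (Localization.Away h)) = Ideal.ofList l)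
    (p : PrimeSpectrum A) (hp : p = PrimeSpectrum.comap (algebraMap A B) q) :
    l.length = CI2.minGen I p ∧
      ∀ k : List (Localization.AtPrime p.asIdeal), k.length = CI2.minGen I p →
        Ideal.ofList k = I.map (algebraMap A (Localization.AtPrime p.asIdeal)) →
          K.Seq (Localization.AtPrime p.asIdeal) k := by
  haveI : q.asIdeal.LiesOver p.asIdeal := ⟨by rw [hp]; rfl⟩
  let L := Localization.AtPrime p.asIdeal
  let M := Localization.AtPrime q.asIdeal
  letI := Localization.AtPrime.algebraOfLiesOver p.asIdeal q.asIdeal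
  haveI : IsLocalHom (algebraMap L M) := by
    rw [RingHom.algebraMap_toAlgebra]
    exact Localization.isLocalHom_localRingHom p.asIdeal q.asIdeal (algebraMap A B) Ideal.LiesOver.over
  haveI : Module.FaithfullyFlat L M := Module.FaithfullyFlat.of_flat_of_isLocalHom
  have hu : IsUnit (algebraMap B M h) := IsLocalization.map_units M (⟨h, hh⟩ : q.asIdeal.primeCompl)
  let ρ : Localization.Away h →+* M := IsLocalization.Away.lift h hu
  have hρ : ρ.comp (algebraMap B (Localization.Away h)) = algebraMap B M := IsLocalization.Away.lift_comp h hu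
  letI : Algebra (Localization.Away h) M := ρ.toAlgebra
  haveI : IsScalarTower B (Localization.Away h) M := IsScalarTower.of_algebraMap_eq' hρ.symm
  let S : Submonoid (Localization.Away h) := q.asIdeal.primeCompl.map (algebraMap B (Localization.Away h))
  haveI : IsLocalization S M := IsLocalization.isLocalization_of_submonoid_le (Localization.Away h) M
    (Submonoid.powers h) q.asIdeal.primeCompl (Submonoid.powers_le.2 hh)
  haveI : Module.Flat (Localization.Away h) M := IsLocalization.flat M S
  have hl' := seq_map_flat hK (B := M) hl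
  have hJ : (I.map (algebraMap A L)).map (algebraMap L M) = Ideal.ofList (l.map (algebraMap (Localization.Away h) M)) := by
    rw [← Ideal.map_ofList, ← hspan, Ideal.map_map, Ideal.map_map, Ideal.map_map,
      ← IsScalarTower.algebraMap_eq A L M, ← IsScalarTower.algebraMap_eq B (Localization.Away h) M,
      ← IsScalarTower.algebraMap_eq A B M]
  have hne : I.map (algebraMap A L) ≠ ⊤ := fun he => by
    have h1 : I.map (algebraMap A L) ≤ IsLocalRing.maximalIdeal L := by
      rw [← Localization.AtPrime.map_eq_maximalIdeal]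
      exact Ideal.map_mono (by rw [hp]; exact Ideal.map_le_iff_le_comap.1 hq)
    rw [he] at h1
    exact (IsLocalRing.maximalIdeal.isMaximal L).ne_top (top_le_iff.1 h1)
  have hkey : ∀ k : List L, k.length = CI2.minGen I p → Ideal.ofList k = I.map (algebraMap A L) →
      l.length = CI2.minGen I p ∧ K.Seq L k := fun k hk hk' => by
    have := ff_key (hK := hK) hk' (fun k' hk'' => hk ▸ Nat.sInf_le ⟨k', rfl, hk''⟩) hne hl' hJ
    rwa [List.length_map, hk] at this
  obtain ⟨k, hk, hk'⟩ := CI2.exists_minGen hI p
  exact ⟨(hkey k hk hk').1, fun k hk hk' => (hkey k hk hk').2⟩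

theorem fg_of_map {I : Ideal A} (h : IsKindIdeal K (I.map (algebraMap A B))) : I.FG := by
  classical
  have hB : (I.map (algebraMap A B)).FG := by
    let t : Set B := {g | ((I.map (algebraMap A B)).map (algebraMap B (Localization.Away g))).FG}
    refine Ideal.fg_of_localizationSpan t ?_ fun g => g.2
    by_contra ht
    obtain ⟨m, hm, htm⟩ := Ideal.exists_le_maximal _ ht
    rw [Ideal.span_le] at htm
    by_cases hIm : I.map (algebraMap A B) ≤ m
    · obtain ⟨g, hg, l, -, hspan⟩ := h ⟨m, hm.isPrime⟩ hIm
      exact hg (htm (show g ∈ t from ⟨l.toFinset, by rw [hspan]; simp⟩))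
    · obtain ⟨g, hgI, hgm⟩ := Set.not_subset.1 hIm
      refine hgm (htm (show g ∈ t from ⟨{1}, ?_⟩))
      rw [Finset.coe_singleton, Ideal.span_singleton_one, eq_comm, Ideal.eq_top_iff_one]
      exact (Ideal.unit_mul_mem_iff_mem _ (IsLocalization.Away.algebraMap_isUnit g)).1
        (by rw [mul_one]; exact Ideal.mem_map_of_mem _ hgI)
  obtain ⟨s, hs, hspan⟩ := (Submodule.fg_span_iff_fg_span_finset_subset _).1 hB
  obtain ⟨s', hs', hss⟩ := Finset.subset_set_image_iff.1 hs
  refine ⟨s', ?_⟩
  rw [← I.comap_map_eq_self_of_faithfullyFlat (B := B)]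
  rw [show I.map (algebraMap A B) = (Ideal.span (s' : Set A)).map (algebraMap A B) by
    rw [Ideal.map_span, ← Finset.coe_image, hss]; exact hspan]
  exact (Ideal.comap_map_eq_self_of_faithfullyFlat _).symm

include hK in
theorem isKindIdeal_of_faithfullyFlat (I : Ideal A) (h : IsKindIdeal K (I.map (algebraMap A B))) :
    IsKindIdeal K I := by
  classical
  have hfg := fg_of_map h
  intro p hp
  obtain ⟨k, hk, g1, hg1, hspan⟩ := CI2.exists_lift_gens hfg p
  let π := PrimeSpectrum.comap (algebraMap A B)
  have hsurj : Function.Surjective π := PrimeSpectrum.comap_surjective_of_faithfullyFlat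
  let W : Set (PrimeSpectrum A) := {p' | ¬ I ≤ p'.asIdeal ∨ CI2.minGen I p' = k.length}
  have hW : IsOpen W := by
    rw [← (PrimeSpectrum.isQuotientMap_of_generalizingMap hsurj
      (RingHom.Flat.generalizingMap_comap (RingHom.flat_algebraMap_iff.2 inferInstance))).isOpen_preimage]
    refine isOpen_iff_forall_mem_open.2 fun q hq => ?_
    by_cases hqI : I ≤ (π q).asIdeal
    · obtain ⟨b, hb, l, hl, hlspan⟩ := h q (Ideal.map_le_iff_le_comap.2 hqI)
      refine ⟨PrimeSpectrum.basicOpen b, fun q' hq' => ?_, (PrimeSpectrum.basicOpen b).2, hb⟩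
      by_cases hq'I : I ≤ (π q').asIdeal
      · refine Or.inr ?_
        rw [← (minGen_key hK hfg q' (Ideal.map_le_iff_le_comap.2 hq'I) hq' hl hlspan (π q') rfl).1,
          (minGen_key hK hfg q (Ideal.map_le_iff_le_comap.2 hqI) hb hl hlspan (π q) rfl).1]
        exact hq.resolve_left (fun hn => hn hqI)
      · exact Or.inl hq'I
    · obtain ⟨x, hxI, hx⟩ := Set.not_subset.1 hqI
      exact ⟨π ⁻¹' PrimeSpectrum.basicOpen x, fun q' hq' => Or.inl fun hle => hq' (hle hxI),
        (PrimeSpectrum.basicOpen x).2.preimage (PrimeSpectrum.continuous_comap _), hx⟩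
  obtain ⟨_, ⟨g2, rfl⟩, hpg2, hg2W⟩ := PrimeSpectrum.isTopologicalBasis_basic_opens.exists_subset_of_mem_open
    (show p ∈ W from Or.inr hk.symm) hW
  let g := g1 * g2
  let G := Localization.Away g
  refine ⟨g, fun hm => (p.2.mem_or_mem hm).elim hg1 hpg2, k.map (algebraMap A G), ?_, ?_⟩
  swap
  · have hu : IsUnit (algebraMap A G g1) := isUnit_of_dvd_unit (map_dvd _ (Dvd.intro g2 rfl))
      (IsLocalization.Away.algebraMap_isUnit g)
    have h2 := congrArg (Ideal.map (IsLocalization.Away.lift (S := Localization.Away g1) g1 hu)) hspan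
    rwa [Ideal.map_map, Ideal.map_ofList, List.map_map, ← RingHom.coe_comp, IsLocalization.Away.lift_comp] at h2
  refine seq_of_local hK fun m _ => ?_
  let p' : PrimeSpectrum A := ⟨m.comap (algebraMap A G), inferInstance⟩
  have hgp' : g ∉ p'.asIdeal := fun hm =>
    (inferInstance : m.IsPrime).ne_top (m.eq_top_of_isUnit_mem hm (IsLocalization.Away.algebraMap_isUnit g))
  let L := Localization.AtPrime p'.asIdeal
  haveI : IsLocalization.AtPrime (Localization.AtPrime m) p'.asIdeal :=
    IsLocalization.isLocalization_atPrime_localization_atPrime _ m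
  let e : L ≃ₐ[A] Localization.AtPrime m :=
    IsLocalization.algEquiv p'.asIdeal.primeCompl L (Localization.AtPrime m)
  have hmap : (k.map (algebraMap A L)).map e.toRingEquiv =
      (k.map (algebraMap A G)).map (algebraMap G (Localization.AtPrime m)) := by
    rw [List.map_map, List.map_map]
    exact List.map_congr_left fun x _ => (e.commutes x).trans (IsScalarTower.algebraMap_apply A G _ x)
  rw [← hmap]
  refine seq_map_equiv hK e.toRingEquiv ?_
  have hu : IsUnit (algebraMap A L g1) :=
    IsLocalization.map_units L (⟨g1, fun hm => hgp' (Ideal.mul_mem_right _ _ hm)⟩ : p'.asIdeal.primeCompl)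
  have hL := congrArg (Ideal.map (IsLocalization.Away.lift (S := Localization.Away g1) g1 hu)) hspan
  rw [Ideal.map_map, Ideal.map_ofList, List.map_map, ← RingHom.coe_comp, IsLocalization.Away.lift_comp] at hL
  by_cases hI' : I ≤ p'.asIdeal
  · obtain ⟨q, hq⟩ := hsurj p'
    have hqI : I.map (algebraMap A B) ≤ q.asIdeal := Ideal.map_le_iff_le_comap.2 (by rw [← hq] at hI'; exact hI')
    obtain ⟨b, hb, l, hl, hlspan⟩ := h q hqI
    have hmin : CI2.minGen I p' = k.length := by
      refine (hg2W ?_).resolve_left (fun hn => hn hI')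
      exact fun hm => hgp' (Ideal.mul_mem_left _ _ hm)
    exact (minGen_key hK hfg q hqI hb hl hlspan p' hq.symm).2 _ (by simp [hmin]) hL.symm
  · refine seq_of_unit_mem hK _ ?_
    obtain ⟨x, hxI, hx⟩ := Set.not_subset.1 hI'
    by_contra hall
    push Not at hall
    have h3 : algebraMap A L x ∈ IsLocalRing.maximalIdeal L :=
      (Ideal.span_le.2 fun y hy => (IsLocalRing.mem_maximalIdeal _).2 (hall y hy))
        (hL.le (Ideal.mem_map_of_mem _ hxI))
    exact (IsLocalRing.mem_maximalIdeal _).1 h3 (IsLocalization.map_units L (⟨x, hx⟩ : p'.asIdeal.primeCompl))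

end Descent

end Groth.Agent.RegDesc11
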