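import Groth.Agent.Lib.RegDesc11.Scheme
import Groth.Agent.Lib.CI2.KRPeel
import Mathlib

/-!
Removing members of an H1-regular or quasi-regular sequence, exchange of generators, and completion.
-/

set_option autoImplicit false
set_option linter.style.haveILetI false
universe u

open MvPolynomial Groth.Agent.RegImm26

namespace Groth.Agent.RegDesc11

theorem eval_mem_mul {A : Type u} [CommRing A] {c k : ℕ} (f : Fin c → A) {Q : MvPolynomial (Fin c) A}
    (hQ : Q.IsHomogeneous k) (I J : Ideal A) (hI : ∀ e, Q.coeff e ∈ I) (hJ : ∀ i, f i ∈ J) :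
    eval f Q ∈ I * J ^ k := by
  rw [eval_eq]
  refine Ideal.sum_mem _ fun e he => Ideal.mul_mem_mul (hI e) ?_
  have hdeg : ∑ i ∈ e.support, e i = k := by simpa [Finsupp.weight_apply, Finsupp.sum] using hQ (mem_support_iff.1 he)
  rw [← hdeg, ← Finset.prod_pow_eq_pow_sum]
  exact Ideal.prod_mem_prod fun i _ => Ideal.pow_mem_pow (hJ i) _

section Tail

variable {A B : Type u} [CommRing A] [CommRing B] (σ : A →+* B) (hσ : Function.Surjective σ) {m : ℕ}
  (f : Fin (m + 1) → A) (hker : RingHom.ker σ = Ideal.span {f 0})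

include hσ hker in
theorem h1_tail (hf : CAlgX.IsH1Regular f) : CAlgX.IsH1Regular fun i : Fin m => σ (f i.succ) := by
  classical
  refine (isH1Regular_iff_span _).2 fun a ha => ?_
  choose b hb using fun i => hσ (a i)
  have h1 : ∑ i, b i * f i.succ ∈ RingHom.ker σ := by
    rw [RingHom.mem_ker, map_sum]
    simpa only [map_mul, hb] using ha
  rw [hker, Ideal.mem_span_singleton'] at h1
  obtain ⟨c, hc⟩ := h1
  obtain ⟨x, hx⟩ := (Submodule.mem_span_range_iff_exists_fun A).mp
    ((isH1Regular_iff_span f).1 hf (Fin.cons (-c) b) (by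
      rw [Fin.sum_univ_succ, Fin.cons_zero]
      simp only [Fin.cons_succ]
      rw [← hc]; ring))
  have hrel : ∀ p : Fin (m + 1) × Fin (m + 1), (fun i : Fin m => σ (koszulRel f p i.succ)) ∈
      Submodule.span B (Set.range (koszulRel fun i : Fin m => σ (f i.succ))) := by
    have hσ0 : σ (f 0) = 0 := (RingHom.mem_ker (f := σ)).1 (hker ▸ Ideal.subset_span rfl)
    rintro ⟨i, j⟩
    induction i using Fin.cases with
    | zero =>
      convert zero_mem (Submodule.span B (Set.range (koszulRel fun i : Fin m => σ (f i.succ)))) using 1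
      funext l
      simp [koszulRel, Pi.single_apply, Fin.succ_ne_zero, hσ0, apply_ite σ]
    | succ i' =>
      induction j using Fin.cases with
      | zero =>
        convert zero_mem (Submodule.span B (Set.range (koszulRel fun i : Fin m => σ (f i.succ)))) using 1
        funext l
        simp [koszulRel, Pi.single_apply, Fin.succ_ne_zero, hσ0, apply_ite σ]
      | succ j' =>
        refine Submodule.subset_span ⟨(i', j'), ?_⟩
        funext l
        simp only [koszulRel, Pi.sub_apply, Pi.single_apply, Fin.succ_inj, map_sub, apply_ite σ, map_zero]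
  have e : a = ∑ p, σ (x p) • fun i : Fin m => σ (koszulRel f p i.succ) := by
    funext i
    rw [Finset.sum_apply, ← hb i]
    have := congrArg σ (congrFun hx i.succ)
    simp only [Fin.cons_succ, Finset.sum_apply, Pi.smul_apply, smul_eq_mul, map_sum, map_mul] at this
    simpa only [Pi.smul_apply, smul_eq_mul] using this.symm
  rw [e]
  exact sum_mem fun p _ => Submodule.smul_mem _ _ (hrel p)

include hσ hker in
theorem quasi_tail (hf : CAlgX.IsQuasiRegular f) : CAlgX.IsQuasiRegular fun i : Fin m => σ (f i.succ) := by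
  classical
  intro n P hP hev d
  let J := Ideal.span (Set.range f)
  let g : Fin m → A := fun i => f i.succ
  have hgJ : Ideal.span (Set.range g) ≤ J := Ideal.span_mono (by rintro _ ⟨i, rfl⟩; exact ⟨_, rfl⟩)
  have hσg : Ideal.span (Set.range fun i => σ (g i)) = (Ideal.span (Set.range g)).map σ := by
    rw [Ideal.map_span, ← Set.range_comp]; rfl
  choose L hL using fun e => hσ (P.coeff e)
  let P' : MvPolynomial (Fin m) A := ∑ e ∈ P.support, monomial e (L e)
  have hP' : P'.IsHomogeneous n := IsHomogeneous.sum _ _ _ fun e he => isHomogeneous_monomial _ (by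
    rw [Finsupp.degree_eq_weight_one]; exact hP (mem_support_iff.1 he))
  have hmap : MvPolynomial.map σ P' = P := by
    conv_rhs => rw [P.as_sum]
    simp only [P', map_sum, map_monomial, hL]
  -- lift the hypothesis
  have h1 : eval g P' ∈ Ideal.comap σ (((Ideal.span (Set.range g)) ^ (n + 1)).map σ) := by
    rw [Ideal.mem_comap, Ideal.map_pow, ← hσg, show σ (eval g P') = eval (fun i => σ (g i)) P by
      rw [← hmap, eval_map]; exact eval₂_comp_left σ (RingHom.id A) g P']
    exact hev
  rw [Ideal.comap_map_of_surjective σ hσ, ← RingHom.ker_eq_comap_bot, hker] at h1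
  obtain ⟨y, hy, z, hz, hyz⟩ := Submodule.mem_sup.1 h1
  obtain ⟨a, rfl⟩ := Ideal.mem_span_singleton'.1 hz
  have hgn : eval g P' ∈ J ^ n := by
    refine Ideal.pow_right_mono hgJ n ?_
    simpa using eval_mem_mul g hP' ⊤ (Ideal.span (Set.range g)) (fun e => trivial) (fun i => Ideal.subset_span ⟨i, rfl⟩)
  have hy' : y ∈ J ^ (n + 1) := Ideal.pow_right_mono hgJ _ hy
  have haf : a * f 0 ∈ J ^ n := by
    have : a * f 0 = eval g P' - y := by rw [← hyz]; ring
    rw [this]
    exact sub_mem hgn (Ideal.pow_le_pow_right (Nat.le_succ n) hy')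
  -- the multiplier lies in the expected power
  have ham : ∀ k, k + 1 ≤ n → a ∈ J ^ k := by
    intro k
    induction k with
    | zero => intro _; rw [pow_zero, Ideal.one_eq_top]; trivial
    | succ k ih =>
      intro hk
      obtain ⟨Q, hQ, hQa⟩ := QReg.exists_homogeneous_of_mem_pow (f := f) (ih (by omega))
      have hc := hf (k + 1) (Q * X 0) (hQ.mul (isHomogeneous_X A 0)) (by
        rw [map_mul, eval_X, hQa]; exact Ideal.pow_le_pow_right (by omega) haf)
      have hcoef : ∀ e, Q.coeff e ∈ J := fun e => by
        have := hc (e + Finsupp.single 0 1)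
        rwa [coeff_mul_X] at this
      rw [← hQa, pow_succ']
      exact eval_mem_mul f hQ J J hcoef (fun i => Ideal.subset_span ⟨i, rfl⟩)
  have hcoeffJ : P'.coeff d ∈ J := by
    cases n with
    | zero =>
      have h0 := hf 0 (rename Fin.succ P') hP'.rename_isHomogeneous (by
        rw [eval_rename]
        show eval g P' ∈ J ^ (0 + 1)
        rw [← hyz]
        exact add_mem hy' (by rw [zero_add, pow_one]; exact J.mul_mem_left _ (Ideal.subset_span ⟨0, rfl⟩)))
        (d.mapDomain Fin.succ)
      rwa [coeff_rename_mapDomain _ (Fin.succ_injective m)] at h0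
    | succ k =>
      obtain ⟨Q, hQ, hQa⟩ := QReg.exists_homogeneous_of_mem_pow (f := f) (ham k le_rfl)
      have h0 := hf (k + 1) (rename Fin.succ P' - Q * X 0) (hP'.rename_isHomogeneous.sub (hQ.mul (isHomogeneous_X A 0))) (by
        rw [map_sub, map_mul, eval_X, hQa, eval_rename]
        show eval g P' - a * f 0 ∈ J ^ (k + 1 + 1)
        rw [← hyz, add_sub_cancel_right]
        exact hy') (d.mapDomain Fin.succ)
      rw [coeff_sub, coeff_rename_mapDomain _ (Fin.succ_injective m), coeff_mul_X', if_neg, sub_zero] at h0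
      · exact h0
      · rw [Finsupp.mem_support_iff, not_not]
        exact Finsupp.mapDomain_notin_range d 0 (fun ⟨i, hi⟩ => Fin.succ_ne_zero i hi)
  have h2 : σ (P'.coeff d) ∈ J.map σ := Ideal.mem_map_of_mem σ hcoeffJ
  rw [← coeff_map, hmap] at h2
  refine (Ideal.map_le_iff_le_comap.2 (Ideal.span_le.2 ?_) :
    J.map σ ≤ Ideal.span (Set.range fun i => σ (g i))) h2
  rintro _ ⟨i, rfl⟩
  rw [SetLike.mem_coe, Ideal.mem_comap]
  induction i using Fin.cases with
  | zero => rw [(RingHom.mem_ker (f := σ)).1 (hker ▸ Ideal.subset_span rfl)]; exact zero_mem _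
  | succ i => exact Ideal.subset_span ⟨i, rfl⟩

end Tail

variable {K : RegImm.Kind} (hK : K = .h1 ∨ K = .quasi)

include hK in
/-- An H1-regular (resp. quasi-regular) sequence stays so modulo an initial segment. -/
theorem seq_tail {B : Type u} [CommRing B] : ∀ (n : ℕ) {A : Type u} [CommRing A] (σ : A →+* B),
    Function.Surjective σ → ∀ (fs gs : List A), fs.length = n → RingHom.ker σ = Ideal.ofList fs →
      K.Seq A (fs ++ gs) → K.Seq B (gs.map σ) := by
  intro n
  induction n with
  | zero =>
    intro A _ σ hσ fs gs hlen hker h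
    obtain rfl := List.length_eq_zero_iff.1 hlen
    have hinj : Function.Injective σ := (RingHom.injective_iff_ker_eq_bot σ).2 (by simp [hker])
    exact seq_map_equiv hK (RingEquiv.ofBijective σ ⟨hinj, hσ⟩) h
  | succ n ih =>
    intro A _ σ hσ fs gs hlen hker h
    obtain ⟨f, fs, rfl⟩ := List.exists_cons_of_length_eq_add_one hlen
    let π := Ideal.Quotient.mk (Ideal.span {f})
    have hle : Ideal.span {f} ≤ RingHom.ker σ := by
      rw [hker]; exact Ideal.span_mono (by simp)
    let τ := Ideal.Quotient.lift (Ideal.span {f}) σ hle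
    have hτk : RingHom.ker τ = Ideal.ofList (fs.map π) := by
      rw [Ideal.ker_quotient_lift, hker, Ideal.ofList_cons, Ideal.map_sup, Ideal.map_span, Set.image_singleton,
        show π f = 0 from Ideal.Quotient.eq_zero_iff_mem.2 (Ideal.mem_span_singleton_self f), Ideal.map_ofList]
      simp [π]
    have htail : K.Seq (A ⧸ Ideal.span {f}) ((fs ++ gs).map π) := by
      have hg : RingHom.ker π = Ideal.span {((f :: (fs ++ gs)).get : _) (0 : Fin ((fs ++ gs).length + 1))} := Ideal.mk_ker
      rcases hK with rfl | rfl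
      · exact RegSeq26.transfer_h1 _ (fs ++ gs) (h1_tail π Ideal.Quotient.mk_surjective (f :: (fs ++ gs)).get hg h)
      · exact RegSeq26.transfer_quasi _ (fs ++ gs) (quasi_tail π Ideal.Quotient.mk_surjective (f :: (fs ++ gs)).get hg h)
    rw [List.map_append] at htail
    have := ih τ (Ideal.Quotient.lift_surjective_of_surjective _ hle hσ) (fs.map π) (gs.map π)
      (by simpa using hlen) hτk htail
    rw [List.map_map] at this
    exact this

include hK in
/-- Generators of the same number of an ideal generated by a sequence of kind `K` form such a sequence. -/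
theorem seq_of_ofList_eq' {A : Type u} [CommRing A] {l l' : List A} (h : K.Seq A l)
    (heq : Ideal.ofList l' = Ideal.ofList l) (hlen : l'.length = l.length) : K.Seq A l' := by
  refine seq_of_local hK fun m _ => ?_
  let L := Localization.AtPrime m
  have heqL : Ideal.ofList (l'.map (algebraMap A L)) = Ideal.ofList (l.map (algebraMap A L)) := by
    rw [← Ideal.map_ofList, ← Ideal.map_ofList, heq]
  by_cases hne : Ideal.ofList (l.map (algebraMap A L)) = ⊤
  · refine seq_of_unit_mem hK _ ?_
    by_contra hex
    push Not at hex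
    rw [← heqL] at hne
    exact (IsLocalRing.maximalIdeal.isMaximal L).ne_top (top_le_iff.1 (hne.ge.trans
      (Ideal.span_le.2 fun x hx => (IsLocalRing.mem_maximalIdeal _).2 (hex x hx))))
  · exact seq_of_ofList_eq hK (seq_map_flat hK h) hne heqL (by simp [hlen])

include hK in
/-- Completing `F` to generators of kind `K` of the ideal near `q`. -/
theorem exists_seq_completion {A : Type u} [CommRing A] (q : Ideal A) [q.IsPrime] {J : Ideal A}
    (hJ : IsKindIdeal K J) (hJq : J ≤ q) {F : List A}
    (hF : ∀ x ∈ F, x ∈ J) (hind : CI2.Indep q J F) :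
    ∃ g ∉ q, ∃ rest : List A, (∀ x ∈ rest, x ∈ J) ∧
      K.Seq (Localization.Away g) ((F ++ rest).map (algebraMap A (Localization.Away g))) ∧
      J.map (algebraMap A (Localization.Away g)) = Ideal.ofList ((F ++ rest).map (algebraMap A (Localization.Away g))) := by
  classical
  obtain ⟨g0, hg0, l, hl, hspan⟩ := hJ ⟨q, inferInstance⟩ hJq
  have hlift : ∀ i : Fin l.length, ∃ a ∈ J, ∃ w : (Localization.Away g0)ˣ, algebraMap A _ a = w * l.get i := by
    intro i
    obtain ⟨⟨⟨a, ha⟩, s⟩, he⟩ := (IsLocalization.mem_map_algebraMap_iff (Submonoid.powers g0) (Localization.Away g0)).mp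
      (hspan.ge (Ideal.subset_span (l.get_mem i)))
    exact ⟨a, ha, (IsLocalization.map_units (Localization.Away g0) s).unit, by rw [IsUnit.unit_spec, mul_comm]; exact he.symm⟩
  choose a ha w hw using hlift
  let k := List.ofFn a
  have hkJ : ∀ x ∈ k, x ∈ J := fun x hx => by obtain ⟨i, rfl⟩ := List.mem_ofFn.1 hx; exact ha i
  have hkspan : Ideal.ofList (k.map (algebraMap A (Localization.Away g0))) = Ideal.ofList l := by
    refine le_antisymm ?_ (Ideal.span_le.2 fun x hx => ?_)
    · rw [← hspan, ← Ideal.map_ofList]; exact Ideal.map_mono (Ideal.span_le.2 hkJ)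
    · obtain ⟨i, rfl⟩ := List.mem_iff_get.mp hx
      have h2 := Ideal.mul_mem_left _ ((w i)⁻¹ : (Localization.Away g0)ˣ).1
        (Ideal.subset_span (List.mem_map.mpr ⟨a i, List.mem_ofFn.mpr ⟨i, rfl⟩, rfl⟩) :
          algebraMap A _ (a i) ∈ Ideal.ofList (k.map (algebraMap A (Localization.Away g0))))
      rwa [hw, Units.inv_mul_cancel_left] at h2
  have hk := seq_of_ofList_eq' hK hl hkspan (by simp [k])
  have hFk : ∀ x ∈ F, ∃ t ∉ q, t * x ∈ Ideal.ofList k := fun x hx => by
    obtain ⟨t, ⟨n, hn⟩, htx⟩ := (IsLocalization.algebraMap_mem_map_algebraMap_iff (Submonoid.powers g0) (Localization.Away g0)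
      (Ideal.ofList k) x).mp (by rw [Ideal.map_ofList, hkspan, ← hspan]; exact Ideal.mem_map_of_mem _ (hF x hx))
    subst hn
    exact ⟨g0 ^ n, fun hm => hg0 ((inferInstance : q.IsPrime).mem_of_pow_mem n hm), htx⟩
  obtain ⟨rest, hrest, hlen, hu⟩ := CI2.exists_completion q hkJ F hind hFk
  choose! u huq humem using hu
  let g := g0 * ∏ x ∈ k.toFinset, u x
  have hg : g ∉ q := fun hm => by
    rcases (inferInstance : q.IsPrime).mem_or_mem hm with h | h
    · exact hg0 h
    · obtain ⟨x, hx, hxq⟩ := (inferInstance : q.IsPrime).prod_mem_iff.1 h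
      exact huq x (List.mem_toFinset.1 hx) hxq
  let G := Localization.Away g
  have hug : IsUnit (algebraMap A G g0) := CI2.isUnit_away_of_dvd (Dvd.intro _ rfl)
  let ρ : Localization.Away g0 →+* G := IsLocalization.Away.lift g0 hug
  have hρ : ρ.comp (algebraMap A (Localization.Away g0)) = algebraMap A G := IsLocalization.Away.lift_comp g0 hug
  letI : Algebra (Localization.Away g0) G := ρ.toAlgebra
  haveI : IsScalarTower A (Localization.Away g0) G := IsScalarTower.of_algebraMap_eq' hρ.symm
  haveI : Module.Flat (Localization.Away g0) G :=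
    (Module.flat_iff_of_isLocalization (Localization.Away g0) (Submonoid.powers g0) G).2
      (IsLocalization.flat G (Submonoid.powers g))
  have hmapk : (k.map (algebraMap A (Localization.Away g0))).map (algebraMap (Localization.Away g0) G) = k.map (algebraMap A G) := by
    rw [List.map_map]
    exact List.map_congr_left fun x _ => (IsScalarTower.algebraMap_apply A (Localization.Away g0) G x).symm
  have hk2 : K.Seq G (k.map (algebraMap A G)) := hmapk ▸ seq_map_flat hK hk
  have hspan2 : J.map (algebraMap A G) = Ideal.ofList (k.map (algebraMap A G)) := by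
    rw [← hmapk, ← Ideal.map_ofList, hkspan, ← hspan, Ideal.map_map, ← IsScalarTower.algebraMap_eq]
  have hmem : ∀ x ∈ F ++ rest, x ∈ J := fun x hx =>
    (List.mem_append.1 hx).elim (hF x) (fun h => hkJ x (hrest x h))
  have heq : Ideal.ofList ((F ++ rest).map (algebraMap A G)) = Ideal.ofList (k.map (algebraMap A G)) := by
    refine le_antisymm ?_ (Ideal.span_le.2 fun y hy => ?_)
    · rw [← hspan2, ← Ideal.map_ofList]
      exact Ideal.map_mono (Ideal.span_le.2 hmem)
    · obtain ⟨x, hx, rfl⟩ := List.mem_map.1 hy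
      rw [SetLike.mem_coe, ← Ideal.map_ofList,
        ← Ideal.unit_mul_mem_iff_mem _ (CI2.isUnit_away_of_dvd (g := u x) (h := g)
          (dvd_mul_of_dvd_right (Finset.dvd_prod_of_mem u (List.mem_toFinset.2 hx)) g0)), ← map_mul]
      refine Ideal.mem_map_of_mem _ ?_
      rw [Ideal.ofList_append, sup_comm, ← Ideal.ofList_append]
      exact humem x hx
  refine ⟨g, hg, rest, fun x hx => hkJ x (hrest x hx), seq_of_ofList_eq' hK hk2 heq ?_, hspan2.trans heq.symm⟩
  simp only [List.length_map, List.length_append]
  omega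

include hK in
theorem isKindIdeal_of_cover {P : Type u} [CommRing P] (I : Ideal P)
    (h : ∀ p : PrimeSpectrum P, I ≤ p.asIdeal → ∃ a : P, a ∉ p.asIdeal ∧
      IsKindIdeal K (I.map (algebraMap P (Localization.Away a)))) :
    IsKindIdeal K I := by
  intro p hp
  obtain ⟨a, ha, hKI⟩ := h p hp
  let Q := Localization.Away a
  have hdis : Disjoint ((Submonoid.powers a : Submonoid P) : Set P) (p.asIdeal : Set P) := by
    rw [Ideal.disjoint_powers_iff_notMem a p.2.isRadical]; exact ha
  let p' : Ideal Q := p.asIdeal.map (algebraMap P Q)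
  haveI : p'.IsPrime := IsLocalization.isPrime_of_isPrime_disjoint (Submonoid.powers a) Q p.asIdeal p.2 hdis
  obtain ⟨b', hb', l, hl, hspan⟩ := hKI ⟨p', inferInstance⟩ (Ideal.map_mono hp)
  obtain ⟨b, s, rfl⟩ := IsLocalization.exists_mk'_eq (Submonoid.powers a) b'
  have hb : b ∉ p.asIdeal := fun hb => hb' (IsLocalization.mk'_mem_iff.2 (Ideal.mem_map_of_mem _ hb))
  have hass : Associated (IsLocalization.mk' Q b s) (algebraMap P Q b) :=
    ⟨(IsLocalization.map_units Q s).unit, by rw [IsUnit.unit_spec, IsLocalization.mk'_spec]⟩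
  let H := Localization.Away (IsLocalization.mk' Q b s)
  haveI : IsLocalization.Away (algebraMap P Q b) H := IsLocalization.Away.of_associated hass
  haveI : IsLocalization.Away (a * b) H := IsLocalization.Away.mul' Q H a b
  let e : H ≃ₐ[P] Localization.Away (a * b) := IsLocalization.algEquiv (Submonoid.powers (a * b)) H _
  refine ⟨a * b, fun hm => (p.2.mem_or_mem hm).elim ha hb, l.map e.toRingEquiv, seq_map_equiv hK e.toRingEquiv hl, ?_⟩
  rw [show (l.map e.toRingEquiv) = l.map e.toRingEquiv.toRingHom from rfl, ← Ideal.map_ofList, ← hspan,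
    Ideal.map_map, Ideal.map_map]
  refine congrArg (fun φ => Ideal.map φ I) (RingHom.ext fun x => ?_)
  show _ = e (algebraMap Q H (algebraMap P Q x))
  rw [← IsScalarTower.algebraMap_apply P Q H, AlgEquiv.commutes]

include hK in
theorem isKindIdeal_map_away {A : Type u} [CommRing A] {I : Ideal A} (h : IsKindIdeal K I) (a : A)
    (B : Type u) [CommRing B] [Algebra A B] [IsLocalization.Away a B] : IsKindIdeal K (I.map (algebraMap A B)) := by
  intro q hq
  obtain ⟨g, hg, l, hl, hspan⟩ := h (PrimeSpectrum.comap (algebraMap A B) q) (Ideal.map_le_iff_le_comap.1 hq)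
  let G := Localization.Away g
  let D := Localization.Away (algebraMap A B g)
  have hu : IsUnit (algebraMap A D g) := by
    rw [IsScalarTower.algebraMap_apply A B D]; exact IsLocalization.Away.algebraMap_isUnit (algebraMap A B g)
  let ρ : G →+* D := IsLocalization.Away.lift g hu
  have hρ : ρ.comp (algebraMap A G) = algebraMap A D := IsLocalization.Away.lift_comp g hu
  letI : Algebra G D := ρ.toAlgebra
  haveI : IsScalarTower A G D := IsScalarTower.of_algebraMap_eq' hρ.symm
  haveI : Module.Flat A B := IsLocalization.flat B (Submonoid.powers a)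
  haveI : Module.Flat B D := IsLocalization.flat D (Submonoid.powers (algebraMap A B g))
  haveI : Module.Flat A D := Module.Flat.trans A B D
  haveI : Module.Flat G D := (Module.flat_iff_of_isLocalization G (Submonoid.powers g) D).2 inferInstance
  refine ⟨algebraMap A B g, hg, l.map (algebraMap G D), seq_map_flat hK hl, ?_⟩
  rw [← Ideal.map_ofList, ← hspan, Ideal.map_map, Ideal.map_map, ← IsScalarTower.algebraMap_eq A G D,
    ← IsScalarTower.algebraMap_eq A B D]

end Groth.Agent.RegDesc11
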