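import Groth.Agent.Lib.RegDesc11.Ideal
import Groth.Agent.Lib.CI2.RImmBC
import Mathlib

/-!
H1-regular and quasi-regular immersions descend along flat surjective quasi-compact base changes.
-/

set_option autoImplicit false
set_option linter.style.haveILetI false
universe u

open CategoryTheory CategoryTheory.Limits AlgebraicGeometry

namespace Groth.Agent.RegDesc11

variable {K : RegImm.Kind} (hK : K = .h1 ∨ K = .quasi)

include hK in
theorem isRegularImmersionAt_of_isKindIdeal {Z X : Scheme.{u}} (i : Z ⟶ X) {U : X.Opens} (hU : IsAffineOpen U)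
    [IsClosedImmersion (i ∣_ U)] {z : Z}
    (hz : i z ∈ U) (h : IsKindIdeal K (RingHom.ker (i.app U).hom)) : RegImm.IsRegularImmersionAt K i z := by
  obtain ⟨g, hg, l, hl, hspan⟩ := h _ (CI2.ker_le_primeIdealOf i hU hz)
  haveI := hU.isLocalization_basicOpen g
  let e : Localization.Away g ≃ₐ[Γ(X, U)] Γ(X, X.basicOpen g) :=
    IsLocalization.algEquiv (Submonoid.powers g) _ _
  refine ⟨⟨X.basicOpen g, hU.basicOpen g⟩, ?_, CI2.isClosedImmersion_restrict_of_le i (X.basicOpen_le g),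
    l.map e.toRingEquiv, seq_map_equiv hK e.toRingEquiv hl, ?_⟩
  · have h1 := hU.fromSpec_preimage_basicOpen g
    have h2 : hU.primeIdealOf ⟨i z, hz⟩ ∈ hU.fromSpec ⁻¹ᵁ X.basicOpen g := by rw [h1]; exact hg
    have h3 : hU.fromSpec (hU.primeIdealOf ⟨i z, hz⟩) ∈ X.basicOpen g := h2
    rwa [hU.fromSpec_primeIdealOf] at h3
  · refine (CI2.ker_app_basicOpen i hU g rfl (X.basicOpen_le g)).trans ?_
    rw [show l.map e.toRingEquiv = l.map e.toRingEquiv.toRingHom from rfl, ← Ideal.map_ofList, ← hspan, Ideal.map_map]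
    exact congrArg (fun φ => Ideal.map φ _) (RingHom.ext fun a => (e.commutes a).symm)

include hK in
theorem isKindIdeal_of_isRegularImmersion {Z X : Scheme.{u}} (i : Z ⟶ X) (hi : RegImm.IsRegularImmersion K i)
    {U : X.Opens} (hU : IsAffineOpen U)
    [IsClosedImmersion (i ∣_ U)] : IsKindIdeal K (RingHom.ker (i.app U).hom) := by
  intro p hp
  obtain ⟨z, hz⟩ := CI2.exists_point_of_ker_le i hU p hp
  have hxU : hU.fromSpec p ∈ U := by rw [← SetLike.mem_coe, ← hU.range_fromSpec]; exact Set.mem_range_self p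
  obtain ⟨⟨U', hU'⟩, hzU', hcl, rs, hrs, hker⟩ := hi.2 z
  haveI := hcl
  obtain ⟨f, g, hfg, hxf⟩ := exists_basicOpen_le_affine_inter hU hU' (hU.fromSpec p) ⟨hxU, hz ▸ hzU'⟩
  haveI := hU.isLocalization_basicOpen f
  have hle : X.basicOpen f ≤ U' := hfg ▸ X.basicOpen_le g
  letI : Algebra Γ(X, U') Γ(X, X.basicOpen f) := (X.presheaf.map (homOfLE hle).op).hom.toAlgebra
  haveI : IsLocalization.Away g Γ(X, X.basicOpen f) := hU'.isLocalization_of_eq_basicOpen g (homOfLE hle) hfg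
  haveI : Module.Flat Γ(X, U') Γ(X, X.basicOpen f) := IsLocalization.flat _ (Submonoid.powers g)
  let e : Γ(X, X.basicOpen f) ≃ₐ[Γ(X, U)] Localization.Away f :=
    IsLocalization.algEquiv (Submonoid.powers f) _ _
  refine ⟨f, fun hfp => ?_, (rs.map (algebraMap Γ(X, U') Γ(X, X.basicOpen f))).map e.toRingEquiv,
    seq_map_equiv hK e.toRingEquiv (seq_map_flat hK hrs), ?_⟩
  · have h2 : p ∈ hU.fromSpec ⁻¹ᵁ X.basicOpen f := hxf
    rw [hU.fromSpec_preimage_basicOpen] at h2
    exact h2 hfp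
  · have h3 : Ideal.ofList (rs.map (algebraMap Γ(X, U') Γ(X, X.basicOpen f))) =
        (RingHom.ker (i.app U).hom).map (algebraMap Γ(X, U) Γ(X, X.basicOpen f)) := by
      refine Eq.trans ?_ (CI2.ker_app_basicOpen i hU f rfl (X.basicOpen_le f))
      rw [CI2.ker_app_basicOpen i hU' g hfg hle, hker, Ideal.map_ofList]
      rfl
    rw [show (rs.map (algebraMap Γ(X, U') Γ(X, X.basicOpen f))).map e.toRingEquiv =
      (rs.map (algebraMap Γ(X, U') Γ(X, X.basicOpen f))).map e.toRingEquiv.toRingHom from rfl,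
      ← Ideal.map_ofList, h3, Ideal.map_map]
    exact congrArg (fun φ => Ideal.map φ _) (RingHom.ext fun a => (e.commutes a).symm)

variable {X Y X' Y' : Scheme.{u}} (i : Y ⟶ X) (g : X' ⟶ X) (i' : Y' ⟶ X') (g' : Y' ⟶ Y)

include hK in
/-- Faithfully flat quasi-compact descent of H1-regular and quasi-regular immersions. -/
theorem isRegularImmersion_descent [IsImmersion i] [Flat g] [Surjective g] [QuasiCompact g]
    (hsq : IsPullback g' i' i g) (hi' : RegImm.IsRegularImmersion K i') :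
    RegImm.IsRegularImmersion K i := by
  refine ⟨inferInstance, fun z => ?_⟩
  obtain ⟨U, hU, hzU, -, hcl⟩ := CI2.exists_affine_closed i z (V := ⊤) trivial
  haveI := hcl
  refine isRegularImmersionAt_of_isKindIdeal hK i hU hzU ?_
  haveI : CompactSpace (g ⁻¹ᵁ U).toScheme :=
    isCompact_iff_compactSpace.1 (QuasiCompact.isCompact_preimage (f := g) _ U.2 hU.isCompact)
  let 𝒰 := (g ⁻¹ᵁ U).toScheme.affineCover.finiteSubcover
  let X'' : Scheme.{u} := ∐ fun j => 𝒰.X j
  let p : X'' ⟶ (g ⁻¹ᵁ U).toScheme := Sigma.desc 𝒰.f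
  let m : X'' ⟶ X' := p ≫ (g ⁻¹ᵁ U).ι
  haveI := HasRingHomProperty.instIsZariskiLocalAtSource (P := @Flat.{u}) (Q := RingHom.Flat)
  haveI : Flat p := IsZariskiLocalAtSource.sigmaDesc (P := @Flat.{u}) fun j => inferInstance
  have hp : Function.Surjective p := fun x => by
    obtain ⟨y, hy⟩ := 𝒰.covers x
    exact ⟨Sigma.ι (fun j => 𝒰.X j) _ y, by rw [← Scheme.Hom.comp_apply]; simpa [p] using hy⟩
  haveI : Flat m := inferInstanceAs (Flat (p ≫ _))
  haveI := hi'.1
  let i'' := pullback.snd i' m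
  have hsq' : IsPullback (pullback.fst i' m ≫ g') i'' i (m ≫ g) :=
    (IsPullback.of_hasPullback i' m).paste_horiz hsq
  have hi'' : RegImm.IsRegularImmersion K i'' :=
    RegSeq26.isRegularImmersion_baseChange K i' m i'' (pullback.fst i' m) (IsPullback.of_hasPullback i' m) hi'
  haveI : IsImmersion i'' := hi''.1
  have hle : (⊤ : X''.Opens) ≤ (m ≫ g) ⁻¹ᵁ U := fun x _ => by
    show g ((g ⁻¹ᵁ U).ι (p x)) ∈ U
    exact (p x).2
  haveI : IsClosedImmersion (i'' ∣_ ⊤) := CI2.isClosedImmersion_restrict_of_isPullback i (m ≫ g) i'' _ hsq' hle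
  have hKI := isKindIdeal_of_isRegularImmersion hK i'' hi'' (isAffineOpen_top X'')
  rw [CI2.ker_app_of_isPullback i (m ≫ g) i'' _ hsq' hU (isAffineOpen_top X'') hle] at hKI
  let φ := ((m ≫ g).appLE U ⊤ hle).hom
  letI : Algebra Γ(X, U) Γ(X'', ⊤) := φ.toAlgebra
  haveI : Module.Flat Γ(X, U) Γ(X'', ⊤) := Scheme.Hom.flat_appLE (m ≫ g) hU (isAffineOpen_top X'') hle
  haveI : Module.FaithfullyFlat Γ(X, U) Γ(X'', ⊤) := Module.FaithfullyFlat.of_comap_surjective fun P => by
    have hxU : hU.fromSpec P ∈ U := by rw [← SetLike.mem_coe, ← hU.range_fromSpec]; exact Set.mem_range_self P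
    obtain ⟨y, hy⟩ := g.surjective (hU.fromSpec P)
    obtain ⟨x, hx⟩ := hp ⟨y, by show g y ∈ U; rw [hy]; exact hxU⟩
    refine ⟨(isAffineOpen_top X'').primeIdealOf ⟨x, trivial⟩, ?_⟩
    have h1 := IsAffineOpen.comap_primeIdealOf_appLE (f := m ≫ g) U hU ⊤ (isAffineOpen_top X'') hle (x := x) trivial
    refine h1.trans ?_
    apply hU.fromSpec.isOpenEmbedding.injective
    rw [hU.fromSpec_primeIdealOf]
    show g ((g ⁻¹ᵁ U).ι (p x)) = _
    rw [hx]
    exact hy
  exact isKindIdeal_of_faithfullyFlat hK _ hKI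

end Groth.Agent.RegDesc11
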