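import Groth.Agent.Lib.RegSeq26.FlatBC
import Groth.Agent.Lib.RegImm26.H1Desc
import Groth.Agent.Lib.QReg3.Change
import Groth.Agent.Lib.QReg.Basic
import Groth.Agent.Lib.CI2.KoszulInv
import Groth.Prelude.Def_RegImm
import Mathlib

/-!
H1-regular and quasi-regular sequences: descent along faithfully flat maps, locality, and independence of the
generators in a local ring.
-/

set_option autoImplicit false
set_option linter.style.haveILetI false
universe u

open TensorProduct Groth.Agent.RegImm26

namespace Groth.Agent.RegDesc11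

section H1

variable {A B : Type u} [CommRing A] [CommRing B] [Algebra A B] {c : ℕ}

theorem one_tmul_eq_zero (f : Fin c → A) (a : Fin c → A)
    (h : (fun i => algebraMap A B (a i)) ∈
      Submodule.span B (Set.range (koszulRel fun i => algebraMap A B (f i)))) :
    (1 : B) ⊗ₜ[A] (Submodule.span A (Set.range (koszulRel f))).mkQ a = 0 := by
  classical
  obtain ⟨x, hx⟩ := (Submodule.mem_span_range_iff_exists_fun B).mp h
  let e := TensorProduct.piScalarRight A B B (Fin c)
  have he : ∀ (m : B) (v : Fin c → A), e (m ⊗ₜ v) = fun i => v i • m := fun m v =>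
    TensorProduct.piScalarRight_apply A B B (Fin c) _ ▸ funext fun i => rfl
  have key : (1 : B) ⊗ₜ[A] a = ∑ p, x p ⊗ₜ[A] koszulRel f p := by
    apply e.injective
    rw [map_sum, he]
    funext i
    rw [Finset.sum_apply, Algebra.smul_def, mul_one]
    refine (congrFun hx i).symm.trans ?_
    rw [Finset.sum_apply]
    refine Finset.sum_congr rfl fun p _ => ?_
    rw [he, Pi.smul_apply, smul_eq_mul, ← map_koszulRel (algebraMap A B) f p i]
    show _ = koszulRel f p i • x p
    rw [Algebra.smul_def, mul_comm]
  calc (1 : B) ⊗ₜ[A] (Submodule.span A (Set.range (koszulRel f))).mkQ a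
      = (Submodule.span A (Set.range (koszulRel f))).mkQ.lTensor B ((1 : B) ⊗ₜ a) := rfl
    _ = 0 := by
      rw [key, map_sum]
      refine Finset.sum_eq_zero fun p _ => ?_
      rw [LinearMap.lTensor_tmul, Submodule.mkQ_apply, (Submodule.Quotient.mk_eq_zero _).2
        (Submodule.subset_span (Set.mem_range_self p)), TensorProduct.tmul_zero]

theorem h1_image {f : Fin c → A} (hf : CAlgX.IsH1Regular fun i => algebraMap A B (f i)) {a : Fin c → A}
    (ha : ∑ i, a i * f i = 0) : (1 : B) ⊗ₜ[A] (Submodule.span A (Set.range (koszulRel f))).mkQ a = 0 := by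
  refine one_tmul_eq_zero f a ((isH1Regular_iff_span _).1 hf _ ?_)
  have := congrArg (algebraMap A B) ha
  simpa only [map_sum, map_mul, map_zero] using this

theorem h1_descent [Module.FaithfullyFlat A B] {f : Fin c → A}
    (hf : CAlgX.IsH1Regular fun i => algebraMap A B (f i)) : CAlgX.IsH1Regular f := by
  refine (isH1Regular_iff_span f).2 fun a ha => ?_
  rw [← Submodule.Quotient.mk_eq_zero, ← Submodule.mkQ_apply]
  refine Module.FaithfullyFlat.tensorProduct_mk_injective (A := A) (B := B) _ ?_
  rw [map_zero]
  exact h1_image hf ha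

theorem h1_of_local {f : Fin c → A}
    (h : ∀ m : Ideal A, ∀ _ : m.IsMaximal, CAlgX.IsH1Regular fun i => algebraMap A (Localization.AtPrime m) (f i)) :
    CAlgX.IsH1Regular f := by
  refine (isH1Regular_iff_span f).2 fun a ha => ?_
  rw [← Submodule.Quotient.mk_eq_zero, ← Submodule.mkQ_apply]
  exact Module.eq_zero_of_localization_maximal
    (fun m _ => Localization.AtPrime m ⊗[A] ((Fin c → A) ⧸ Submodule.span A (Set.range (koszulRel f))))
    (fun m _ => TensorProduct.mk A (Localization.AtPrime m) _ 1) _ fun m hm => h1_image (h m hm) ha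

end H1

section Quasi

variable {A B : Type u} [CommRing A] [CommRing B] [Algebra A B] {c : ℕ}

theorem span_range_map (f : Fin c → A) :
    Ideal.span (Set.range fun i => algebraMap A B (f i)) = (Ideal.span (Set.range f)).map (algebraMap A B) := by
  rw [Ideal.map_span, ← Set.range_comp]; rfl

theorem quasi_image {f : Fin c → A} (hf : CAlgX.IsQuasiRegular fun i => algebraMap A B (f i)) {n : ℕ}
    {P : MvPolynomial (Fin c) A} (hP : P.IsHomogeneous n)
    (hev : MvPolynomial.eval f P ∈ Ideal.span (Set.range f) ^ (n + 1)) (d : Fin c →₀ ℕ) :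
    algebraMap A B (P.coeff d) ∈ (Ideal.span (Set.range f)).map (algebraMap A B) := by
  have h1 := hf n (MvPolynomial.map (algebraMap A B) P) (hP.map _) ?_ d
  · rwa [MvPolynomial.coeff_map, span_range_map] at h1
  · rw [MvPolynomial.eval_map, span_range_map, ← Ideal.map_pow]
    have := Ideal.mem_map_of_mem (algebraMap A B) hev
    rwa [show algebraMap A B (MvPolynomial.eval f P) = MvPolynomial.eval₂ (algebraMap A B) (fun i => algebraMap A B (f i)) P from
      MvPolynomial.eval₂_comp_left (algebraMap A B) (RingHom.id A) f P] at this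

theorem quasi_descent [Module.FaithfullyFlat A B] {f : Fin c → A}
    (hf : CAlgX.IsQuasiRegular fun i => algebraMap A B (f i)) : CAlgX.IsQuasiRegular f := by
  intro n P hP hev d
  rw [← Ideal.comap_map_eq_self_of_faithfullyFlat (B := B) (Ideal.span (Set.range f))]
  exact quasi_image hf hP hev d

theorem quasi_of_local {f : Fin c → A}
    (h : ∀ m : Ideal A, ∀ _ : m.IsMaximal, CAlgX.IsQuasiRegular fun i => algebraMap A (Localization.AtPrime m) (f i)) :
    CAlgX.IsQuasiRegular f := fun n P hP hev d =>
  Ideal.mem_of_localization_maximal fun m hm => quasi_image (h m hm) hP hev d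

end Quasi

section Lists

variable {A : Type u} [CommRing A]

theorem transfer_back {B : Type u} [CommRing B] (k : RegImm.Kind) (g : A → B) (rs : List A)
    (h : k.Seq B (rs.map g)) :
    (k = .h1 → CAlgX.IsH1Regular fun i => g (rs.get i)) ∧
      (k = .quasi → CAlgX.IsQuasiRegular fun i => g (rs.get i)) := by
  constructor <;> rintro rfl
  · exact RegSeq26.transport (P := @fun c (f : Fin c → B) => CAlgX.IsH1Regular f) (List.length_map g) _ _
      (fun i => by simp only [List.get_eq_getElem, List.getElem_map, Fin.val_cast]) h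
  · exact RegSeq26.transport (P := @fun c (f : Fin c → B) => CAlgX.IsQuasiRegular f) (List.length_map g) _ _
      (fun i => by simp only [List.get_eq_getElem, List.getElem_map, Fin.val_cast]) h

variable {k : RegImm.Kind} (hk : k = .h1 ∨ k = .quasi)

include hk in
theorem seq_descent {B : Type u} [CommRing B] [Algebra A B] [Module.FaithfullyFlat A B] {rs : List A}
    (h : k.Seq B (rs.map (algebraMap A B))) : k.Seq A rs := by
  rcases hk with rfl | rfl
  · exact h1_descent ((transfer_back _ _ rs h).1 rfl)
  · exact quasi_descent ((transfer_back _ _ rs h).2 rfl)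

include hk in
theorem seq_of_local {rs : List A}
    (h : ∀ m : Ideal A, ∀ _ : m.IsMaximal, k.Seq (Localization.AtPrime m) (rs.map (algebraMap A _))) :
    k.Seq A rs := by
  rcases hk with rfl | rfl
  · exact h1_of_local fun m hm => (transfer_back _ _ rs (h m hm)).1 rfl
  · exact quasi_of_local fun m hm => (transfer_back _ _ rs (h m hm)).2 rfl

include hk in
theorem seq_map_flat {B : Type u} [CommRing B] [Algebra A B] [Module.Flat A B] {rs : List A}
    (h : k.Seq A rs) : k.Seq B (rs.map (algebraMap A B)) := by
  rcases hk with rfl | rfl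
  · exact RegSeq26.transfer_h1 _ rs (RegSeq26.isH1Regular_of_flat h)
  · exact RegSeq26.transfer_quasi _ rs (RegSeq26.isQuasiRegular_of_flat h)

theorem range_get (rs : List A) : Ideal.span (Set.range rs.get) = Ideal.ofList rs := by
  rw [Set.range_list_get]

include hk in
theorem quasi_of_seq {rs : List A} (h : k.Seq A rs) : CAlgX.IsQuasiRegular rs.get := by
  rcases hk with rfl | rfl
  · exact QReg.isQuasiRegular_of_isH1Regular h
  · exact h

/-- A quasi-regular sequence is a minimal generating set of its ideal. -/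
theorem le_of_span_eq {n m : ℕ} {f : Fin n → A} {g : Fin m → A} (hf : CAlgX.IsQuasiRegular f)
    (hne : Ideal.span (Set.range f) ≠ ⊤) (h : Ideal.span (Set.range g) = Ideal.span (Set.range f)) : n ≤ m := by
  classical
  let J := Ideal.span (Set.range f)
  haveI : Nontrivial (A ⧸ J) := Ideal.Quotient.nontrivial_iff.2 hne
  choose P hP using fun i => (Submodule.mem_span_range_iff_exists_fun A).mp (h.ge (Ideal.subset_span ⟨i, rfl⟩) : f i ∈ _)
  choose Q hQ using fun j => (Submodule.mem_span_range_iff_exists_fun A).mp (h.le (Ideal.subset_span ⟨j, rfl⟩) : g j ∈ _)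
  let π := Ideal.Quotient.mk J
  have h1 : (Matrix.of P).map π * (Matrix.of Q).map π = 1 := by
    rw [← Matrix.map_mul]
    ext i j
    rw [Matrix.map_apply, ← (Matrix.map_one π (map_zero π) (map_one π)), Matrix.map_apply, Ideal.Quotient.eq]
    refine QReg3.mem_of_linear hf (fun j => (Matrix.of P * Matrix.of Q) i j - (1 : Matrix (Fin n) (Fin n) A) i j) ?_ j
    have e : ∑ j, ((Matrix.of P * Matrix.of Q) i j - (1 : Matrix (Fin n) (Fin n) A) i j) * f j = 0 := by
      simp only [smul_eq_mul] at hP hQ
      simp only [sub_mul, Finset.sum_sub_distrib, Matrix.mul_apply, Finset.sum_mul, Matrix.of_apply, mul_assoc]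
      rw [Finset.sum_comm]
      simp only [← Finset.mul_sum, hP, hQ]
      simp [Matrix.one_apply]
    rw [e]; exact zero_mem _
  refine le_of_fin_surjective (A ⧸ J) (Matrix.toLin' ((Matrix.of P).map π)) fun y =>
    ⟨Matrix.toLin' ((Matrix.of Q).map π) y, ?_⟩
  rw [← LinearMap.comp_apply, ← Matrix.toLin'_mul, h1, Matrix.toLin'_one, LinearMap.id_apply]

theorem h1_of_span_eq [IsLocalRing A] {n : ℕ} {f f' : Fin n → A} (hf : CAlgX.IsH1Regular f)
    (hne : Ideal.span (Set.range f) ≠ ⊤) (h : Ideal.span (Set.range f') = Ideal.span (Set.range f)) :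
    CAlgX.IsH1Regular f' := by
  classical
  let J := Ideal.span (Set.range f)
  choose a ha using fun i => (Submodule.mem_span_range_iff_exists_fun A).mp (h.le (Ideal.subset_span ⟨i, rfl⟩) : f' i ∈ _)
  choose b hb using fun i => (Submodule.mem_span_range_iff_exists_fun A).mp (h.ge (Ideal.subset_span ⟨i, rfl⟩) : f i ∈ _)
  simp only [smul_eq_mul] at ha hb
  have hq := QReg.isQuasiRegular_of_isH1Regular hf
  let π := Ideal.Quotient.mk J
  let Am : Matrix (Fin n) (Fin n) A := Matrix.of a
  have hba : (Matrix.of b).map π * Am.map π = 1 := by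
    rw [← Matrix.map_mul]
    ext i j
    rw [Matrix.map_apply, ← (Matrix.map_one π (map_zero π) (map_one π)), Matrix.map_apply, Ideal.Quotient.eq]
    refine QReg3.mem_of_linear hq (fun j => (Matrix.of b * Am) i j - (1 : Matrix (Fin n) (Fin n) A) i j) ?_ j
    have e : ∑ j, ((Matrix.of b * Am) i j - (1 : Matrix (Fin n) (Fin n) A) i j) * f j = 0 := by
      simp only [sub_mul, Finset.sum_sub_distrib, Matrix.mul_apply, Finset.sum_mul, Matrix.of_apply, mul_assoc, Am]
      rw [Finset.sum_comm]
      simp only [← Finset.mul_sum, ha, hb]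
      simp [Matrix.one_apply]
    rw [e]; exact zero_mem _
  haveI : IsLocalHom π := by
    haveI : Nontrivial (A ⧸ J) := Ideal.Quotient.nontrivial_iff.2 hne
    exact IsLocalHom.of_surjective π Ideal.Quotient.mk_surjective
  have hdet : IsUnit Am.det := by
    refine isUnit_of_map_unit π _ ?_
    rw [RingHom.map_det]
    exact IsUnit.of_mul_eq_one_right _ (by rw [← Matrix.det_mul]; exact (congrArg Matrix.det hba).trans Matrix.det_one)
  let C := Am⁻¹
  have hAC : Am * C = 1 := Matrix.mul_nonsing_inv Am hdet
  have hCA : C * Am = 1 := Matrix.nonsing_inv_mul Am hdet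
  have hf' : f' = Am.mulVec f := funext fun i => (ha i).symm
  have hcf : f = C.mulVec f' := by rw [hf', Matrix.mulVec_mulVec, hCA, Matrix.one_mulVec]
  refine (isH1Regular_iff_span f').2 fun y hy => ?_
  have hy' : ∑ i, Matrix.vecMul y Am i * f i = 0 := by
    show dotProduct (Matrix.vecMul y Am) f = 0
    rw [← Matrix.dotProduct_mulVec, ← hf']; exact hy
  obtain ⟨x, hx⟩ := (Submodule.mem_span_range_iff_exists_fun A).mp ((isH1Regular_iff_span f).1 hf _ hy')
  have hrel : ∀ p, Matrix.vecMul (koszulRel f p) C ∈ Submodule.span A (Set.range (koszulRel f')) := by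
    rintro ⟨i, j⟩
    have e : Matrix.vecMul (koszulRel f (i, j)) C = ∑ p : Fin n × Fin n, (C i p.1 * C j p.2) • koszulRel f' p := by
      funext l
      simp only [Matrix.vecMul, dotProduct, koszulRel, Pi.sub_apply, Pi.single_apply, Finset.sum_apply, Pi.smul_apply,
        smul_eq_mul, Fintype.sum_prod_type, sub_mul, mul_sub, Finset.sum_sub_distrib, ite_mul, zero_mul, mul_ite,
        mul_zero, Finset.sum_ite_eq, Finset.sum_ite_eq', Finset.mem_univ, if_true, Finset.sum_ite_irrel,
        Finset.sum_const_zero]
      have hfj : ∀ j, f j = ∑ m, C j m * f' m := fun j => congrFun hcf j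
      rw [hfj j, hfj i, Finset.sum_mul, Finset.sum_mul]
      congr 1 <;> exact Finset.sum_congr rfl fun m _ => by ring
    rw [e]
    exact sum_mem fun p _ => Submodule.smul_mem _ _ (Submodule.subset_span (Set.mem_range_self p))
  rw [show y = Matrix.vecMul (Matrix.vecMul y Am) C by rw [Matrix.vecMul_vecMul, hAC, Matrix.vecMul_one], ← hx,
    Matrix.sum_vecMul]
  refine sum_mem fun p _ => ?_
  rw [Matrix.smul_vecMul]
  exact Submodule.smul_mem _ _ (hrel p)

theorem quasi_of_span_eq {n : ℕ} {f f' : Fin n → A} (hf : CAlgX.IsQuasiRegular f)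
    (h : Ideal.span (Set.range f') = Ideal.span (Set.range f)) : CAlgX.IsQuasiRegular f' :=
  QReg3.isQuasiRegular_of_span_eq f f' hf h

include hk in
theorem length_le {l l' : List A} (h : k.Seq A l) (hne : Ideal.ofList l ≠ ⊤)
    (heq : Ideal.ofList l' = Ideal.ofList l) : l.length ≤ l'.length :=
  le_of_span_eq (quasi_of_seq hk h) (by rwa [range_get]) (by rw [range_get, range_get, heq])

include hk in
theorem seq_of_ofList_eq [IsLocalRing A] {l l' : List A} (h : k.Seq A l) (hne : Ideal.ofList l ≠ ⊤)
    (heq : Ideal.ofList l' = Ideal.ofList l) (hlen : l'.length = l.length) : k.Seq A l' := by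
  have hspan : Ideal.span (Set.range fun i => l'.get (Fin.cast hlen.symm i)) = Ideal.span (Set.range l.get) := by
    rw [range_get, ← heq, ← range_get l']
    congr 1
    ext x
    exact ⟨fun ⟨i, hi⟩ => ⟨_, hi⟩, fun ⟨i, hi⟩ => ⟨Fin.cast hlen i, by simpa using hi⟩⟩
  rcases hk with rfl | rfl
  · exact RegSeq26.transport (P := @fun c (f : Fin c → A) => CAlgX.IsH1Regular f) hlen.symm _ l'.get
      (fun i => by simp) (h1_of_span_eq h (by rwa [range_get]) hspan)
  · exact RegSeq26.transport (P := @fun c (f : Fin c → A) => CAlgX.IsQuasiRegular f) hlen.symm _ l'.get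
      (fun i => by simp) (quasi_of_span_eq h hspan)

end Lists

end Groth.Agent.RegDesc11
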