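import Groth.Agent.Lib.RegDesc11.Peel
import Groth.Agent.Lib.CI2.RImmSmooth
import Mathlib

/-!
H1-regular and quasi-regular ideals descend along smooth algebras with the same quotient.
-/

set_option autoImplicit false
set_option linter.style.haveILetI false
universe u

open MvPolynomial

namespace Groth.Agent.RegDesc11

/-- The coordinates of an étale map from a polynomial ring are independent in `J / qJ`. -/
theorem indep_coordinates {A B : Type u} [CommRing A] [CommRing B] [Algebra A B] {d : ℕ}
    (g : MvPolynomial (Fin d) A →+* B) (hg : g.Etale) (hgC : g.comp MvPolynomial.C = algebraMap A B)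
    (q : Ideal B) [q.IsPrime] (J : Ideal B) (hJq : J ≤ q) (a : Fin d → A)
    (ha : ∀ i, g (X i) - algebraMap A B (a i) ∈ J) (c : Fin d → B)
    (hc : ∑ i, c i * (g (X i) - algebraMap A B (a i)) ∈ q * J) (j : Fin d) : c j ∈ q := by
  classical
  let k := B ⧸ q
  let π : B →+* k := Ideal.Quotient.mk q
  let e : MvPolynomial (Fin d) A →+* DualNumber k := eval₂Hom ((TrivSqZeroExt.inlHom k k).comp (π.comp (algebraMap A B)))
    (fun i => TrivSqZeroExt.inl (π (g (X i))) + TrivSqZeroExt.inr (if i = j then 1 else 0))
  letI : Algebra (MvPolynomial (Fin d) A) B := g.toAlgebra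
  haveI : Algebra.Etale (MvPolynomial (Fin d) A) B := hg
  letI algE : Algebra (MvPolynomial (Fin d) A) (DualNumber k) := e.toAlgebra
  letI algk : Algebra (MvPolynomial (Fin d) A) k := (π.comp g).toAlgebra
  let fs : DualNumber k →+* k := (TrivSqZeroExt.fstHom k k k : DualNumber k →ₐ[k] k).toRingHom
  have hfs : ∀ x, fs x = TrivSqZeroExt.fst x := fun x => rfl
  have hcomm : fs.comp e = π.comp g := by
    refine MvPolynomial.ringHom_ext (fun x => ?_) fun i => ?_
    · simp [e, hfs, ← hgC]
    · simp [e, hfs]
  let fsA : DualNumber k →ₐ[MvPolynomial (Fin d) A] k := { fs with commutes' := fun x => RingHom.congr_fun hcomm x }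
  let πA : B →ₐ[MvPolynomial (Fin d) A] k := { π with commutes' := fun x => rfl }
  have hsurj : Function.Surjective fsA := fun x => ⟨TrivSqZeroExt.inl x, rfl⟩
  have hnil : IsNilpotent (RingHom.ker (fsA : DualNumber k →+* k)) := by
    refine ⟨2, ?_⟩
    rw [Submodule.pow_succ (n := 1), Submodule.pow_one, Ideal.zero_eq_bot, eq_bot_iff]
    refine Ideal.mul_le.2 fun x hx y hy => ?_
    have hx' : TrivSqZeroExt.fst x = 0 := hx
    have hy' : TrivSqZeroExt.fst y = 0 := hy
    rw [Ideal.mem_bot]
    ext <;> simp [hx', hy']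
  let L := Algebra.FormallySmooth.liftOfSurjective πA fsA hsurj hnil
  have hfst : ∀ x, TrivSqZeroExt.fst (L x) = π x := fun x =>
    Algebra.FormallySmooth.liftOfSurjective_apply πA fsA hsurj hnil x
  have hzero : ∀ x ∈ q * J, L x = 0 := fun x hx => by
    refine Submodule.mul_induction_on hx (fun u hu v hv => ?_) fun u v hu hv => by rw [map_add, hu, hv, add_zero]
    have hu' : TrivSqZeroExt.fst (L u) = 0 := by rw [hfst]; exact Ideal.Quotient.eq_zero_iff_mem.2 hu
    have hv' : TrivSqZeroExt.fst (L v) = 0 := by rw [hfst]; exact Ideal.Quotient.eq_zero_iff_mem.2 (hJq hv)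
    rw [map_mul]
    ext <;> simp [hu', hv']
  have hf : ∀ i, L (g (X i) - algebraMap A B (a i)) = TrivSqZeroExt.inr (if i = j then 1 else 0) := fun i => by
    have h3 : π (g (X i)) = π (algebraMap A B (a i)) := Ideal.Quotient.eq.2 (hJq (ha i))
    rw [map_sub, ← hgC, RingHom.comp_apply, show L (g (X i)) = e (X i) from L.commutes (X i),
      show L (g (C (a i))) = e (C (a i)) from L.commutes (C (a i))]
    simp only [e, eval₂Hom_X', eval₂Hom_C, RingHom.comp_apply, h3]
    ext <;> simp
  have h0 := hzero _ hc
  rw [map_sum] at h0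
  have h1 := congrArg TrivSqZeroExt.snd h0
  simp only [map_mul, hf, TrivSqZeroExt.snd_zero] at h1
  have h2 : ∀ i, TrivSqZeroExt.snd (L (c i) * TrivSqZeroExt.inr (if i = j then (1 : k) else 0)) = if i = j then π (c i) else 0 := by
    intro i
    split_ifs with hij <;> simp [hfst]
  rw [TrivSqZeroExt.snd_sum] at h1
  simp only [h2, Finset.sum_ite_eq', Finset.mem_univ, if_true] at h1
  exact Ideal.Quotient.eq_zero_iff_mem.1 h1

variable {K : RegImm.Kind} (hK : K = .h1 ∨ K = .quasi)

include hK in
/-- An ideal whose extension to a flat finitely presented algebra has kind `K` near `Q` has kind `K` near `Q ∩ A`. -/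
theorem exists_away_of_open_image {A E : Type u} [CommRing A] [CommRing E] [Algebra A E] [Module.Flat A E]
    [Algebra.FinitePresentation A E] (I : Ideal A) (Q : Ideal E) [Q.IsPrime]
    (hKI : ∀ (D : Type u) [CommRing D] [Algebra A D] [Algebra E D] [IsScalarTower A E D] [Module.Flat E D],
      IsKindIdeal K (I.map (algebraMap A D))) :
    ∃ a : A, a ∉ Q.comap (algebraMap A E) ∧ IsKindIdeal K (I.map (algebraMap A (Localization.Away a))) := by
  have hopen := PrimeSpectrum.isOpenMap_comap_of_hasGoingDown_of_finitePresentation (R := A) (S := E)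
  obtain ⟨_, ⟨a, rfl⟩, hpa, ha⟩ := PrimeSpectrum.isTopologicalBasis_basic_opens.exists_subset_of_mem_open
    (show PrimeSpectrum.comap (algebraMap A E) ⟨Q, inferInstance⟩ ∈ PrimeSpectrum.comap (algebraMap A E) '' Set.univ from
      ⟨_, trivial, rfl⟩) (hopen _ isOpen_univ)
  refine ⟨a, hpa, ?_⟩
  let A0 := Localization.Away a
  let E3 := Localization.Away (algebraMap A E a)
  have hu : IsUnit (algebraMap A E3 a) := by
    rw [IsScalarTower.algebraMap_apply A E E3]; exact IsLocalization.Away.algebraMap_isUnit (algebraMap A E a)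
  let ρ : A0 →+* E3 := IsLocalization.Away.lift a hu
  have hρ : ρ.comp (algebraMap A A0) = algebraMap A E3 := IsLocalization.Away.lift_comp a hu
  letI : Algebra A0 E3 := ρ.toAlgebra
  haveI : IsScalarTower A A0 E3 := IsScalarTower.of_algebraMap_eq' hρ.symm
  haveI : Module.Flat E E3 := IsLocalization.flat E3 (Submonoid.powers (algebraMap A E a))
  haveI : Module.Flat A E3 := Module.Flat.trans A E E3
  haveI : Module.Flat A0 E3 := (Module.flat_iff_of_isLocalization A0 (Submonoid.powers a) E3).2 inferInstance
  haveI : Module.FaithfullyFlat A0 E3 := Module.FaithfullyFlat.of_comap_surjective fun P => by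
    have hP : a ∉ (PrimeSpectrum.comap (algebraMap A A0) P).asIdeal := fun hm =>
      P.2.ne_top (P.asIdeal.eq_top_of_isUnit_mem hm (IsLocalization.Away.algebraMap_isUnit a))
    obtain ⟨Q', -, hQ⟩ := ha hP
    have hQa : algebraMap A E a ∉ Q'.asIdeal := fun hm => hP (by rw [← hQ]; exact hm)
    obtain ⟨Q3, hQ3⟩ : Q' ∈ Set.range (PrimeSpectrum.comap (algebraMap E E3)) := by
      rw [PrimeSpectrum.localization_away_comap_range E3 (algebraMap A E a)]; exact hQa
    refine ⟨Q3, PrimeSpectrum.localization_comap_injective A0 (Submonoid.powers a) ?_⟩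
    rw [← hQ, ← hQ3, ← PrimeSpectrum.comap_comp_apply, ← PrimeSpectrum.comap_comp_apply, ← IsScalarTower.algebraMap_eq,
      ← IsScalarTower.algebraMap_eq]
  refine isKindIdeal_of_faithfullyFlat hK (B := E3) _ ?_
  rw [Ideal.map_map, ← IsScalarTower.algebraMap_eq A A0 E3]
  exact hKI E3

include hK in
/-- The standard smooth case, near a point of the common quotient. -/
theorem exists_away_isKindIdeal {A B C : Type u} [CommRing A] [CommRing B] [CommRing C] [Algebra A B]
    [Algebra.IsStandardSmooth A B] (α : A →+* C) (hα : Function.Surjective α) (β : B →+* C)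
    (h : β.comp (algebraMap A B) = α) (hJ : IsKindIdeal K (RingHom.ker β)) (r : Ideal C) [r.IsPrime] :
    ∃ a : A, α a ∉ r ∧ IsKindIdeal K ((RingHom.ker α).map (algebraMap A (Localization.Away a))) := by
  classical
  let I := RingHom.ker α
  let J := RingHom.ker β
  let q := r.comap β
  have hJq : J ≤ q := Ideal.comap_mono bot_le
  obtain ⟨d, g, hgC, hg⟩ := RingHom.IsStandardSmooth.exists_etale_mvPolynomial (f := algebraMap A B) (RingHom.isStandardSmooth_algebraMap.mpr inferInstance)
  have hlift : ∀ i, ∃ a, α a = β (g (X i)) := fun i => hα _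
  choose a ha using hlift
  let f : Fin d → B := fun i => g (X i) - algebraMap A B (a i)
  have hfJ : ∀ i, f i ∈ J := fun i => by
    show β (g (X i) - algebraMap A B (a i)) = 0
    rw [map_sub, sub_eq_zero, ← ha]
    exact (RingHom.congr_fun h _).symm
  let F := List.ofFn f
  have hind : CI2.Indep q J F := by
    intro c hc i
    let c' : Fin d → B := fun i => c (Fin.cast List.length_ofFn.symm i)
    have hsum : ∑ i, c' i * f i ∈ q * J := by
      convert hc using 1
      exact Fintype.sum_equiv (finCongr List.length_ofFn.symm) _ _ fun i => by simp [c', F]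
    have := indep_coordinates g hg hgC q J hJq a hfJ c' hsum (Fin.cast List.length_ofFn i)
    simpa [c'] using this
  obtain ⟨g1, hg1, rest, -, hseq, hspan⟩ := exists_seq_completion hK q hJ hJq
    (fun x hx => by obtain ⟨i, rfl⟩ := List.mem_ofFn.1 hx; exact hfJ i) hind
  -- the étale slice
  let K0 : Ideal (MvPolynomial (Fin d) A) := Ideal.span (Set.range fun i => X i - MvPolynomial.C (a i))
  let N : Ideal B := Ideal.ofList F
  let E := B ⧸ N
  have hK0 : K0.map g = N := by
    rw [Ideal.map_span]
    show _ = Ideal.span {y | y ∈ List.ofFn f}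
    congr 1
    ext y
    simp only [Set.mem_image, Set.mem_range, exists_exists_eq_and, List.mem_ofFn, Set.mem_ofPred_eq]
    refine exists_congr fun i => ?_
    rw [map_sub, show g (MvPolynomial.C (a i)) = algebraMap A B (a i) from RingHom.congr_fun hgC _]
  haveI hE : Algebra.Etale A E := by
    letI : Algebra (MvPolynomial (Fin d) A) B := g.toAlgebra
    haveI : Algebra.Etale (MvPolynomial (Fin d) A) B := hg
    haveI : Algebra.Etale (MvPolynomial (Fin d) A ⧸ K0) (B ⧸ K0.map (algebraMap (MvPolynomial (Fin d) A) B)) :=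
      RingHom.etale_algebraMap.mp (by
        have h2 := RingHom.Etale.respectsIso.1 _ (Algebra.TensorProduct.quotIdealMapEquivQuotTensor B K0).symm.toRingEquiv
          (RingHom.etale_algebraMap.mpr (inferInstance : Algebra.Etale (MvPolynomial (Fin d) A ⧸ K0)
            (TensorProduct (MvPolynomial (Fin d) A) (MvPolynomial (Fin d) A ⧸ K0) B)))
        convert h2 using 1
        exact RingHom.ext fun x => ((Algebra.TensorProduct.quotIdealMapEquivQuotTensor B K0).symm.commutes x).symm)
    let κ : A →+* MvPolynomial (Fin d) A ⧸ K0 := (Ideal.Quotient.mk K0).comp MvPolynomial.C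
    have hev : ∀ x : MvPolynomial (Fin d) A, x - MvPolynomial.C (eval a x) ∈ K0 := fun x => by
      induction x using MvPolynomial.induction_on with
      | C b => simp
      | add x y hx hy => convert add_mem hx hy using 1; simp only [map_add]; ring
      | mul_X x i hx =>
        have hi : (X i : MvPolynomial (Fin d) A) - MvPolynomial.C (a i) ∈ K0 := Ideal.subset_span ⟨i, rfl⟩
        convert add_mem (K0.mul_mem_right (X i) hx) (K0.mul_mem_left (MvPolynomial.C (eval a x)) hi) using 1
        simp only [map_mul, eval_X]; ring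
    have hκ : Function.Bijective κ := by
      refine ⟨(injective_iff_map_eq_zero κ).2 fun x hx => ?_, fun y => ?_⟩
      · have hle : K0 ≤ RingHom.ker (eval a) := Ideal.span_le.2 (by rintro _ ⟨i, rfl⟩; simp)
        simpa using hle (Ideal.Quotient.eq_zero_iff_mem.1 hx)
      · obtain ⟨x, rfl⟩ := Ideal.Quotient.mk_surjective y
        exact ⟨eval a x, (Ideal.Quotient.eq.2 (hev x)).symm⟩
    let e : B ⧸ K0.map (algebraMap (MvPolynomial (Fin d) A) B) ≃+* E := Ideal.quotEquivOfEq hK0
    have h1 := RingHom.Etale.respectsIso.1 _ e (RingHom.Etale.stableUnderComposition _ _ (RingHom.Etale.of_bijective hκ)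
      (RingHom.etale_algebraMap.mpr ‹Algebra.Etale (MvPolynomial (Fin d) A ⧸ K0) _›))
    refine RingHom.etale_algebraMap.mp ?_
    convert h1 using 1
    refine RingHom.ext fun x => ?_
    show Ideal.Quotient.mk N (algebraMap A B x) = e (Ideal.Quotient.mk _ (g (MvPolynomial.C x)))
    rw [← hgC, RingHom.comp_apply]
    rfl
  have hNJ : N ≤ J := Ideal.span_le.2 fun x hx => by obtain ⟨i, rfl⟩ := List.mem_ofFn.1 hx; exact hfJ i
  let β' : E →+* C := Ideal.Quotient.lift N β hNJ
  let J' := RingHom.ker β'
  have hJ'map : J' = J.map (Ideal.Quotient.mk N) := Ideal.ker_quotient_lift β hNJ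
  -- the ideal of `C` in the slice is idempotent modulo `I`
  have hidem : J' ≤ I.map (algebraMap A E) ⊔ J' * J' := by
    let M := I.map (algebraMap A E) ⊔ J' * J'
    have hIJ : I.map (algebraMap A E) ≤ J' := Ideal.map_le_iff_le_comap.2 fun x hx => by
      show β' (Ideal.Quotient.mk N (algebraMap A B x)) = 0
      show β (algebraMap A B x) = 0
      rw [← RingHom.comp_apply, h]
      exact hx
    let s0 : A →+* E ⧸ M := (Ideal.Quotient.mk M).comp (algebraMap A E)
    have hs0 : RingHom.ker α ≤ RingHom.ker s0 := fun x hx =>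
      Ideal.Quotient.eq_zero_iff_mem.2 (Ideal.mem_sup_left (Ideal.mem_map_of_mem _ hx))
    let s : C →+* E ⧸ M := α.liftOfSurjective hα ⟨s0, hs0⟩
    have hs : ∀ x, s (α x) = s0 x := fun x => α.liftOfRightInverse_comp_apply _ _ ⟨s0, hs0⟩ x
    let g₁ : E →ₐ[A] E ⧸ M := Ideal.Quotient.mkₐ A M
    let g₂ : E →ₐ[A] E ⧸ M :=
      { s.comp β' with
        commutes' := fun x => by
          show s (β (algebraMap A B x)) = _
          rw [show β (algebraMap A B x) = α x from RingHom.congr_fun h x, hs]
          rfl }
    have heq : g₁ = g₂ := Algebra.FormallyUnramified.ext (I := J'.map (Ideal.Quotient.mk M))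
      ⟨2, by
        rw [Submodule.pow_succ (n := 1), Submodule.pow_one, ← Ideal.map_mul, Ideal.zero_eq_bot, Ideal.map_eq_bot_iff_le_ker,
          Ideal.mk_ker]
        exact le_sup_right⟩ (fun x => by
        obtain ⟨y, hy⟩ := hα (β' x)
        have hx : x - algebraMap A E y ∈ J' := by
          show β' (x - algebraMap A E y) = 0
          rw [map_sub, sub_eq_zero, ← hy]
          exact (RingHom.congr_fun h y).symm
        rw [Ideal.Quotient.eq]
        show g₁ x - s (β' x) ∈ _
        rw [← hy, hs, show g₁ x - s0 y = Ideal.Quotient.mk M (x - algebraMap A E y) from (map_sub _ _ _).symm]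
        exact Ideal.mem_map_of_mem _ hx)
    intro x hx
    have := AlgHom.congr_fun heq x
    refine Ideal.Quotient.eq_zero_iff_mem.1 (this.trans ?_)
    show s (β' x) = 0
    rw [show β' x = 0 from hx, map_zero]
  -- localise
  let E1 := Localization.Away (Ideal.Quotient.mk N g1)
  let σ := CI2.awayσ (Ideal.Quotient.mk N) g1
  have hmapg : (Submonoid.powers g1).map (Ideal.Quotient.mk N) = Submonoid.powers (Ideal.Quotient.mk N g1) :=
    Submonoid.map_powers _ g1
  haveI : IsLocalization ((Submonoid.powers g1).map (Ideal.Quotient.mk N)) E1 := by rw [hmapg]; infer_instance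
  have hσs : Function.Surjective σ := IsLocalization.map_surjective_of_surjective (M := Submonoid.powers g1)
    (g := Ideal.Quotient.mk N) (S := Localization.Away g1) (Q := E1) Ideal.Quotient.mk_surjective
  have hσk : RingHom.ker σ = Ideal.ofList (F.map (algebraMap B (Localization.Away g1))) := by
    refine (IsLocalization.ker_map (S := Localization.Away g1) E1 (Ideal.Quotient.mk N) hmapg).trans ?_
    rw [Ideal.mk_ker, ← Ideal.map_ofList]
  have hσcomp : σ.comp (algebraMap B (Localization.Away g1)) = (algebraMap E E1).comp (Ideal.Quotient.mk N) :=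
    IsLocalization.map_comp (M := Submonoid.powers g1) (S := Localization.Away g1) _
  rw [List.map_append] at hseq hspan
  have hseq1 := seq_tail hK F.length σ hσs _ _ (by simp) hσk hseq
  have hJ1 : J'.map (algebraMap E E1) = Ideal.ofList ((rest.map (algebraMap B (Localization.Away g1))).map σ) := by
    have h5 := congrArg (Ideal.map σ) hspan
    rw [Ideal.map_map, hσcomp, ← Ideal.map_map, ← hJ'map, Ideal.ofList_append, Ideal.map_sup,
      Ideal.map_ofList, ← Ideal.map_ofList, ← hσk, (Ideal.map_eq_bot_iff_le_ker σ).2 le_rfl, bot_sup_eq, Ideal.map_ofList] at h5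
    exact h5
  let q' : Ideal E := r.comap β'
  have hgq' : Ideal.Quotient.mk N g1 ∉ q' := fun hm => hg1 hm
  let q1 : Ideal E1 := q'.map (algebraMap E E1)
  haveI : q1.IsPrime := IsLocalization.isPrime_of_isPrime_disjoint (Submonoid.powers (Ideal.Quotient.mk N g1)) E1 q' inferInstance
    (by rw [Ideal.disjoint_powers_iff_notMem _ (inferInstance : q'.IsPrime).isRadical]; exact hgq')
  let I1 := I.map (algebraMap A E1)
  let J1 := J'.map (algebraMap E E1)
  have hI1 : I1 = (I.map (algebraMap A E)).map (algebraMap E E1) := by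
    rw [Ideal.map_map, ← IsScalarTower.algebraMap_eq]
  have hI1J1 : I1 ≤ J1 := by
    rw [hI1]
    refine Ideal.map_mono (Ideal.map_le_iff_le_comap.2 fun x hx => ?_)
    show β' (Ideal.Quotient.mk N (algebraMap A B x)) = 0
    show β (algebraMap A B x) = 0
    rw [← RingHom.comp_apply, h]
    exact hx
  have hJ1q : J1 ≤ q1 := Ideal.map_mono (Ideal.comap_mono bot_le)
  have hidem1 : J1 ≤ I1 ⊔ J1 * J1 := by
    rw [hI1, ← Ideal.map_mul, ← Ideal.map_sup]
    exact Ideal.map_mono hidem
  let π1 := Ideal.Quotient.mk I1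
  have hfg : (J1.map π1).FG := Ideal.FG.map ⟨((rest.map (algebraMap B (Localization.Away g1))).map σ).toFinset,
    by rw [show J1 = _ from hJ1]; simp [Ideal.ofList]⟩ _
  have hie : IsIdempotentElem (J1.map π1) := by
    refine le_antisymm Ideal.mul_le_left ?_
    calc J1.map π1 ≤ (I1 ⊔ J1 * J1).map π1 := Ideal.map_mono hidem1
      _ = J1.map π1 * J1.map π1 := by rw [Ideal.map_sup, Ideal.map_quotient_self, bot_sup_eq, Ideal.map_mul]
  obtain ⟨e, he, hspan_e⟩ := ((J1.map π1).isIdempotentElem_iff_of_fg hfg).1 hie
  obtain ⟨e', rfl⟩ := Ideal.Quotient.mk_surjective e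
  have he'q : e' ∈ q1 := by
    have h1 : π1 e' ∈ J1.map π1 := hspan_e ▸ Submodule.mem_span_singleton_self _
    have h2 : e' ∈ (J1.map π1).comap π1 := h1
    rw [Ideal.comap_map_of_surjective π1 Ideal.Quotient.mk_surjective, ← RingHom.ker_eq_comap_bot, Ideal.mk_ker,
      sup_eq_left.2 hI1J1] at h2
    exact hJ1q h2
  let w := 1 - e'
  have hwq : w ∉ q1 := fun hm => (inferInstance : q1.IsPrime).ne_top ((Ideal.eq_top_iff_one q1).2
    (by simpa [w] using add_mem hm he'q))
  have hwJ : ∀ x ∈ J1, w * x ∈ I1 := fun x hx => by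
    have h1 : π1 x ∈ J1.map π1 := Ideal.mem_map_of_mem _ hx
    rw [hspan_e, Submodule.mem_span_singleton] at h1
    obtain ⟨c, hc⟩ := h1
    rw [← Ideal.Quotient.eq_zero_iff_mem, map_mul, ← show c • π1 e' = π1 x from hc, smul_eq_mul, map_sub, map_one]
    have he2 : π1 e' * π1 e' = π1 e' := he
    linear_combination c * (π1 e' - π1 e') - c * he2
  let E2 := Localization.Away w
  have hIJ2 : I.map (algebraMap A E2) = J1.map (algebraMap E1 E2) := by
    rw [show I.map (algebraMap A E2) = I1.map (algebraMap E1 E2) by rw [Ideal.map_map, ← IsScalarTower.algebraMap_eq]]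
    refine le_antisymm (Ideal.map_mono hI1J1) (Ideal.map_le_iff_le_comap.2 fun x hx => ?_)
    rw [Ideal.mem_comap, ← Ideal.unit_mul_mem_iff_mem _ (IsLocalization.Away.algebraMap_isUnit (S := E2) w), ← map_mul]
    exact Ideal.mem_map_of_mem _ (hwJ x hx)
  haveI : Module.Flat E1 E2 := IsLocalization.flat E2 (Submonoid.powers w)
  have hseq2 := seq_map_flat hK (B := E2) hseq1
  have hKI2 : ∀ (D : Type u) [CommRing D] [Algebra A D] [Algebra E2 D] [IsScalarTower A E2 D] [Module.Flat E2 D],
      IsKindIdeal K (I.map (algebraMap A D)) := by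
    intro D _ _ _ _ _ P _
    refine ⟨1, fun hm => P.2.ne_top ((Ideal.eq_top_iff_one _).2 hm),
      (((((rest.map (algebraMap B (Localization.Away g1))).map σ).map (algebraMap E1 E2)).map (algebraMap E2 D)).map
        (algebraMap D (Localization.Away (1 : D)))), ?_, ?_⟩
    · haveI : Module.Flat D (Localization.Away (1 : D)) := IsLocalization.flat _ (Submonoid.powers (1 : D))
      exact seq_map_flat hK (seq_map_flat hK hseq2)
    · rw [← Ideal.map_ofList, ← Ideal.map_ofList, ← Ideal.map_ofList, ← hJ1, IsScalarTower.algebraMap_eq A E2 D,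
        ← Ideal.map_map, hIJ2]
  -- the image in `Spec A`
  haveI : Module.Flat A E2 := by
    haveI : Module.Flat E E1 := IsLocalization.flat E1 (Submonoid.powers (Ideal.Quotient.mk N g1))
    haveI : Module.Flat A E1 := Module.Flat.trans A E E1
    exact Module.Flat.trans A E1 E2
  haveI : Algebra.FinitePresentation A E2 := by
    haveI : Algebra.FinitePresentation E E1 := IsLocalization.Away.finitePresentation (Ideal.Quotient.mk N g1)
    haveI : Algebra.FinitePresentation A E1 := Algebra.FinitePresentation.trans A E E1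
    haveI : Algebra.FinitePresentation E1 E2 := IsLocalization.Away.finitePresentation w
    exact Algebra.FinitePresentation.trans A E1 E2
  have hopen := PrimeSpectrum.isOpenMap_comap_of_hasGoingDown_of_finitePresentation (R := A) (S := E2)
  let q2 : Ideal E2 := q1.map (algebraMap E1 E2)
  haveI : q2.IsPrime := IsLocalization.isPrime_of_isPrime_disjoint (Submonoid.powers w) E2 q1 inferInstance
    (by rw [Ideal.disjoint_powers_iff_notMem _ (inferInstance : q1.IsPrime).isRadical]; exact hwq)
  have hq2 : q2.comap (algebraMap A E2) = r.comap α := by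
    have h1 : q2.comap (algebraMap E1 E2) = q1 := IsLocalization.comap_map_of_isPrime_disjoint (Submonoid.powers w) E2 ‹q1.IsPrime›
      (by rw [Ideal.disjoint_powers_iff_notMem _ (inferInstance : q1.IsPrime).isRadical]; exact hwq)
    have h2 : q1.comap (algebraMap E E1) = q' := IsLocalization.comap_map_of_isPrime_disjoint
      (Submonoid.powers (Ideal.Quotient.mk N g1)) E1 (inferInstance : q'.IsPrime)
      (by rw [Ideal.disjoint_powers_iff_notMem _ (inferInstance : q'.IsPrime).isRadical]; exact hgq')
    rw [IsScalarTower.algebraMap_eq A E1 E2, ← Ideal.comap_comap, h1, IsScalarTower.algebraMap_eq A E E1,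
      ← Ideal.comap_comap, h2, Ideal.comap_comap]
    congr 1
  obtain ⟨a0, ha0, hKI⟩ := exists_away_of_open_image hK I (E := E2) q2 hKI2
  exact ⟨a0, fun hm => ha0 (hq2 ▸ hm), hKI⟩

include hK in
/-- For a smooth `B` over `A`, if the ideal of `B` with quotient `A / I` has kind `K` then so has `I`. -/
theorem isKindIdeal_of_smooth {A B C : Type u} [CommRing A] [CommRing B] [CommRing C] [Algebra A B]
    [Algebra.Smooth A B] (α : A →+* C) (hα : Function.Surjective α) (β : B →+* C)
    (h : β.comp (algebraMap A B) = α) (hJ : IsKindIdeal K (RingHom.ker β)) : IsKindIdeal K (RingHom.ker α) := by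
  refine isKindIdeal_of_cover hK _ fun p hp => ?_
  haveI := Ideal.map_isPrime_of_surjective hα hp
  let r := p.asIdeal.map α
  obtain ⟨s, hspan, hloc⟩ := (RingHom.smooth_algebraMap.mpr ‹Algebra.Smooth A B›).locally_isStandardSmooth
  obtain ⟨h0, hh0, hr⟩ : ∃ h0 ∈ s, β h0 ∉ r := by
    by_contra hall
    push Not at hall
    exact (inferInstance : r.IsPrime).ne_top ((Ideal.eq_top_iff_one r).2 (by
      have h1 : (1 : B) ∈ r.comap β := (hspan ▸ Ideal.span_le.2 hall : ⊤ ≤ r.comap β) trivial
      simpa using h1))
  obtain ⟨a, ha⟩ := hα (β h0)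
  let Bh := Localization.Away h0
  let A1 := Localization.Away a
  let B1 := Localization.Away (algebraMap A Bh a)
  let hb : B := h0 * algebraMap A B a
  haveI : IsLocalization.Away (algebraMap B Bh (algebraMap A B a)) B1 := by
    rw [← IsScalarTower.algebraMap_apply A B Bh]; infer_instance
  haveI : IsLocalization.Away hb B1 := IsLocalization.Away.mul' Bh B1 h0 (algebraMap A B a)
  let c := α a
  have hbc : β hb = c * c := by
    show β (h0 * algebraMap A B a) = _
    rw [map_mul, ← ha, show β (algebraMap A B a) = α a from RingHom.congr_fun h a]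
  have hcr : c ∉ r := fun hm => hr (ha ▸ hm)
  let C1 := Localization.Away (β hb)
  have hcu : IsUnit (algebraMap C C1 c) :=
    isUnit_of_dvd_unit (map_dvd _ (hbc ▸ Dvd.intro c rfl)) (IsLocalization.Away.algebraMap_isUnit (β hb))
  haveI : IsLocalization.Away c C1 := IsLocalization.of_le (Submonoid.powers (β hb)) (Submonoid.powers c)
    (Submonoid.powers_le.2 (hbc ▸ ⟨2, pow_two c⟩)) (by rintro _ ⟨n, rfl⟩; rw [map_pow]; exact hcu.pow n)
  have hmapA : (Submonoid.powers a).map α = Submonoid.powers c := Submonoid.map_powers α a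
  have hmapB : (Submonoid.powers hb).map β = Submonoid.powers (β hb) := Submonoid.map_powers β hb
  haveI : IsLocalization ((Submonoid.powers a).map α) C1 := hmapA.symm ▸ ‹IsLocalization.Away c C1›
  haveI : IsLocalization ((Submonoid.powers hb).map β) C1 := by rw [hmapB]; infer_instance
  let α1 : A1 →+* C1 := IsLocalization.map C1 α (Submonoid.le_comap_map (Submonoid.powers a))
  let β1 : B1 →+* C1 := IsLocalization.map C1 β (Submonoid.le_comap_map (Submonoid.powers hb))
  haveI : IsLocalization ((Submonoid.powers a).map ((algebraMap B Bh).comp (algebraMap A B))) B1 := by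
    rw [Submonoid.map_powers, ← IsScalarTower.algebraMap_eq A B Bh]; infer_instance
  let ι1 : A1 →+* B1 := IsLocalization.map B1 ((algebraMap B Bh).comp (algebraMap A B))
    (Submonoid.le_comap_map (Submonoid.powers a))
  have hι : ι1.IsStandardSmooth :=
    RingHom.isStandardSmooth_localizationPreserves _ (Submonoid.powers a) A1 B1 (hloc h0 hh0)
  letI : Algebra A1 B1 := ι1.toAlgebra
  haveI : Algebra.IsStandardSmooth A1 B1 := hι
  have hβι : β1.comp (algebraMap A1 B1) = α1 := by
    refine IsLocalization.ringHom_ext (Submonoid.powers a) (RingHom.ext fun x => ?_)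
    show β1 (ι1 (algebraMap A A1 x)) = α1 (algebraMap A A1 x)
    rw [IsLocalization.map_eq, IsLocalization.map_eq, RingHom.comp_apply, ← IsScalarTower.algebraMap_apply B Bh B1,
      IsLocalization.map_eq, show β (algebraMap A B x) = α x from RingHom.congr_fun h x]
  let r1 : Ideal C1 := r.map (algebraMap C C1)
  have hdis : Disjoint ((Submonoid.powers c : Submonoid C) : Set C) (r : Set C) := by
    rw [Ideal.disjoint_powers_iff_notMem c (inferInstance : r.IsPrime).isRadical]; exact hcr
  haveI : r1.IsPrime := IsLocalization.isPrime_of_isPrime_disjoint (Submonoid.powers c) C1 r inferInstance hdis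
  have hJ1 : IsKindIdeal K (RingHom.ker β1) := by
    rw [IsLocalization.ker_map (S := B1) C1 β rfl]
    exact isKindIdeal_map_away hK hJ hb B1
  obtain ⟨a1, ha1, hKI⟩ := exists_away_isKindIdeal hK α1
    (IsLocalization.map_surjective_of_surjective (M := Submonoid.powers a) (g := α) (S := A1) (Q := C1) hα) β1 hβι hJ1 r1
  rw [IsLocalization.ker_map (S := A1) C1 α rfl] at hKI
  obtain ⟨⟨b, s⟩, hbs⟩ := IsLocalization.surj (Submonoid.powers a) a1
  have hass : Associated a1 (algebraMap A A1 b) := ⟨(IsLocalization.map_units A1 s).unit, hbs⟩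
  let H := Localization.Away a1
  haveI : IsLocalization.Away (algebraMap A A1 b) H := IsLocalization.Away.of_associated hass
  haveI : IsLocalization.Away (a * b) H := IsLocalization.Away.mul' A1 H a b
  refine ⟨a * b, fun hm => (p.2.mem_or_mem hm).elim (fun h2 => hcr (Ideal.mem_map_of_mem α h2)) fun h2 => ha1 ?_, ?_⟩
  · have h3 : α1 (algebraMap A A1 b) ∈ r1 := by
      rw [IsLocalization.map_eq]; exact Ideal.mem_map_of_mem _ (Ideal.mem_map_of_mem α h2)
    have h7 : α1 a1 * α1 (algebraMap A A1 (s : A)) = α1 (algebraMap A A1 b) := (map_mul α1 _ _).symm.trans (congrArg α1 hbs)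
    exact (Ideal.mul_unit_mem_iff_mem r1 ((IsLocalization.map_units A1 s).map α1)).1 (h7 ▸ h3)
  · intro P hP
    let e : H ≃ₐ[A] Localization.Away (a * b) := IsLocalization.algEquiv (Submonoid.powers (a * b)) H _
    have h4 : ((RingHom.ker α).map (algebraMap A A1)).map (algebraMap A1 H) = (RingHom.ker α).map (algebraMap A H) := by
      rw [Ideal.map_map, ← IsScalarTower.algebraMap_eq]
    rw [h4] at hKI
    letI : Algebra H (Localization.Away (a * b)) := e.toRingEquiv.toRingHom.toAlgebra
    haveI : IsScalarTower A H (Localization.Away (a * b)) := IsScalarTower.of_algebraMap_eq (R := A) (S := H) (A := Localization.Away (a * b)) fun x => (e.commutes x).symm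
    haveI : IsLocalization.Away (1 : H) (Localization.Away (a * b)) :=
      IsLocalization.away_of_isUnit_of_bijective _ isUnit_one e.bijective
    have h5 := isKindIdeal_map_away hK hKI 1 (Localization.Away (a * b))
    rw [Ideal.map_map, ← IsScalarTower.algebraMap_eq] at h5
    exact h5 P hP

end Groth.Agent.RegDesc11
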