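import Groth.Agent.Lib.TorBal27.BaseChange
import Groth.Prelude.Def_DRing2
import Mathlib

/-!
Vanishing of `Tor` is local at maximal ideals.
-/

set_option autoImplicit false
universe u

open CategoryTheory TensorProduct

namespace Groth.Agent.RegDesc11

theorem exact_of_local {A : Type u} [CommRing A] {M : Type u} [AddCommGroup M] [Module A M]
    {P Q R : Type u} [AddCommGroup P] [Module A P] [AddCommGroup Q] [Module A Q] [AddCommGroup R] [Module A R]
    (f : P →ₗ[A] Q) (g : Q →ₗ[A] R)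
    (h : ∀ m : Ideal A, ∀ _ : m.IsMaximal, ∀ x : (Localization.AtPrime m ⊗[A] M) ⊗[A] Q,
      g.lTensor (Localization.AtPrime m ⊗[A] M) x = 0 → ∃ y, f.lTensor (Localization.AtPrime m ⊗[A] M) y = x)
    (x : M ⊗[A] Q) (hx : g.lTensor M x = 0) : ∃ y, f.lTensor M y = x := by
  let T : Ideal A := (LinearMap.range (f.lTensor M)).comap (LinearMap.toSpanSingleton A _ x)
  suffices hT : T = ⊤ by
    have h1 : (1 : A) • x ∈ LinearMap.range (f.lTensor M) := ((Ideal.eq_top_iff_one T).1 hT :)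
    rwa [one_smul] at h1
  by_contra hne
  obtain ⟨m, hm, hTm⟩ := Ideal.exists_le_maximal T hne
  let L := Localization.AtPrime m
  let aQ := TensorProduct.assoc A L M Q
  let aP := TensorProduct.assoc A L M P
  let aR := TensorProduct.assoc A L M R
  have natf : ∀ z, aQ (f.lTensor (L ⊗[A] M) z) = (f.lTensor M).lTensor L (aP z) := fun z =>
    LinearMap.congr_fun (show aQ.toLinearMap ∘ₗ f.lTensor (L ⊗[A] M) = (f.lTensor M).lTensor L ∘ₗ aP.toLinearMap from
      TensorProduct.ext_threefold fun a b c => rfl) z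
  have natg : ∀ z, aR (g.lTensor (L ⊗[A] M) z) = (g.lTensor M).lTensor L (aQ z) := fun z =>
    LinearMap.congr_fun (show aR.toLinearMap ∘ₗ g.lTensor (L ⊗[A] M) = (g.lTensor M).lTensor L ∘ₗ aQ.toLinearMap from
      TensorProduct.ext_threefold fun a b c => rfl) z
  obtain ⟨y', hy'⟩ := h m hm (aQ.symm ((1 : L) ⊗ₜ[A] x)) (aR.injective (by
    rw [natg, LinearEquiv.apply_symm_apply, map_zero, LinearMap.lTensor_tmul, hx, TensorProduct.tmul_zero]))
  have hy2 : (f.lTensor M).lTensor L (aP y') = (1 : L) ⊗ₜ[A] x := by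
    rw [← natf, hy', LinearEquiv.apply_symm_apply]
  obtain ⟨⟨y, s⟩, hys⟩ := IsLocalizedModule.surj m.primeCompl (TensorProduct.mk A L (M ⊗[A] P) 1) (aP y')
  have h1 : (TensorProduct.mk A L (M ⊗[A] Q) 1) (f.lTensor M y) = (TensorProduct.mk A L (M ⊗[A] Q) 1) ((s : A) • x) := by
    show (1 : L) ⊗ₜ[A] f.lTensor M y = (1 : L) ⊗ₜ[A] ((s : A) • x)
    rw [← LinearMap.lTensor_tmul, show (1 : L) ⊗ₜ[A] y = s • aP y' from hys.symm, Submonoid.smul_def, map_smul, hy2,
      TensorProduct.tmul_smul]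
  obtain ⟨t, ht⟩ := (IsLocalizedModule.eq_iff_exists m.primeCompl (TensorProduct.mk A L (M ⊗[A] Q) 1)).1 h1
  refine (m.primeCompl.mul_mem t.2 s.2) (hTm ?_)
  show ((t : A) * (s : A)) • x ∈ LinearMap.range (f.lTensor M)
  exact ⟨(t : A) • y, by rw [map_smul, mul_smul]; exact ht⟩

/-- `Tor` vanishes when its localisations at maximal ideals do. -/
theorem subsingleton_tor_of_local {A : Type u} [CommRing A] (M N : Type u) [AddCommGroup M] [Module A M]
    [AddCommGroup N] [Module A N] (i : ℕ)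
    (h : ∀ m : Ideal A, ∀ _ : m.IsMaximal,
      Subsingleton (DRing.Tor A (i + 1) (Localization.AtPrime m ⊗[A] M) N)) :
    Subsingleton (DRing.Tor A (i + 1) M N) := by
  have key : ∀ (M' : Type u) [AddCommGroup M'] [Module A M'], Subsingleton (DRing.Tor A (i + 1) M' N) ↔
      ∀ x : M' ⊗[A] (TorBal27.cx (ModuleCat.of A N)).X (i + 1),
        ((TorBal27.cx (ModuleCat.of A N)).d (i + 1) i).hom.lTensor M' x = 0 →
          ∃ y, ((TorBal27.cx (ModuleCat.of A N)).d (i + 2) (i + 1)).hom.lTensor M' y = x := fun M' _ _ =>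
    (TorBal27.torIso (i + 1) (ModuleCat.of A M') (ModuleCat.of A N)).toLinearEquiv.toEquiv.subsingleton_congr.trans
      (DMod.subsingleton_homology_iff (TorBal27.tcxR (ModuleCat.of A M') (ModuleCat.of A N))
        (i := i + 2) (k := i) (ChainComplex.prev ℕ (i + 1)) (ChainComplex.next_nat_succ i))
  exact (key M).2 fun x hx => exact_of_local _ _ (fun m hm => (key _).1 (h m hm)) x hx

end Groth.Agent.RegDesc11
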